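import Groth.Agent.Lib.ModM1.Stalk
import Groth.Agent.Lib.ModM1.Exact
import Mathlib.Topology.Sheaves.SheafCondition.Sites

/-! Morphisms of modules given on a basis of affine opens. -/

set_option autoImplicit false
set_option backward.isDefEq.respectTransparency false

universe u

open CategoryTheory Limits AlgebraicGeometry Opposite TopologicalSpace

namespace Groth.Agent.KoszShH13

variable {X : Scheme.{u}}

/-- a family of affine opens forming a basis -/
def IsAffBasis (P : X.affineOpens → Prop) : Prop :=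
  ∀ (U : X.Opens) (x : X), x ∈ U → ∃ V : X.affineOpens, P V ∧ x ∈ V.1 ∧ V.1 ≤ U

theorem isAffBasis_top : IsAffBasis (X := X) fun _ => True := fun U x hx => by
  obtain ⟨_, ⟨V, hV, rfl⟩, hxV, hVU⟩ := X.isBasis_affineOpens.exists_subset_of_mem_open hx U.2
  exact ⟨⟨V, hV⟩, trivial, hxV, hVU⟩

variable {P : X.affineOpens → Prop} {M N : X.Modules}

theorem isBasis_range (hP : IsAffBasis P) :
    Opens.IsBasis (Set.range fun V : {V : X.affineOpens // P V} => V.1.1) := by
  rw [Opens.isBasis_iff_nbhd]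
  intro U x hx
  obtain ⟨V, hV, hxV, hVU⟩ := hP U x hx
  exact ⟨V.1, ⟨⟨V, hV⟩, rfl⟩, hxV, hVU⟩

/-- morphisms agreeing on a basis are equal -/
theorem hom_ext_basis (hP : IsAffBasis P) {f g : M ⟶ N}
    (h : ∀ V, P V → ∀ m : Γ(M, V.1), f.app V.1 m = g.app V.1 m) : f = g := by
  refine Scheme.Modules.hom_ext f g fun U => ?_
  refine ConcreteCategory.hom_ext _ _ fun m => M1.section_ext _ _ fun x hx => ?_
  obtain ⟨V, hV, hxV, hVU⟩ := hP U x hx
  rw [← M1.germ_mres N hVU hxV, ← M1.germ_mres N hVU hxV]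
  refine congrArg _ ?_
  refine (M1.map_app_eq f hVU m).symm.trans (Eq.trans ?_ (M1.map_app_eq g hVU m))
  exact h V hV _

/-- a compatible family of linear maps on a basis glues to a morphism -/
theorem exists_glue (hP : IsAffBasis P) (f : ∀ V : X.affineOpens, P V → (Γ(M, V.1) →+ Γ(N, V.1)))
    (hsmul : ∀ V hV (r : Γ(X, V.1)) m, f V hV (r • m) = r • f V hV m)
    (hres : ∀ V hV W hW (h : W.1 ≤ V.1) m, M1.mres N h (f V hV m) = f W hW (M1.mres M h m)) :
    ∃ φ : M ⟶ N, ∀ V hV m, φ.app V.1 m = f V hV m := by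
  let B : {V : X.affineOpens // P V} → X.Opens := fun V => V.1.1
  let α : (inducedFunctor B).op ⋙ M.presheaf ⟶ (inducedFunctor B).op ⋙ N.presheaf :=
    { app := fun V => AddCommGrpCat.ofHom (f V.unop.1 V.unop.2)
      naturality := fun V W i => by
        refine ConcreteCategory.hom_ext _ _ fun m => ?_
        exact (hres V.unop.1 V.unop.2 W.unop.1 W.unop.2 (leOfHom ((inducedFunctor B).map i.unop)) m).symm }
  let ab : M.presheaf ⟶ N.presheaf :=
    TopCat.Sheaf.restrictHomEquivHom M.presheaf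
      (⟨N.presheaf, N.isSheaf⟩ : TopCat.Sheaf AddCommGrpCat.{u} X.carrier) (isBasis_range hP) α
  have hab : ∀ (V : X.affineOpens) (hV : P V) (m : Γ(M, V.1)), ab.app (op V.1) m = f V hV m := fun V hV m => by
    have e := TopCat.Sheaf.extend_hom_app M.presheaf
      (⟨N.presheaf, N.isSheaf⟩ : TopCat.Sheaf AddCommGrpCat.{u} X.carrier) (isBasis_range hP) α ⟨V, hV⟩
    exact ConcreteCategory.congr_hom e m
  have hnat : ∀ {U V : X.Opens} (h : V ≤ U) (m : Γ(M, U)),
      M1.mres N h (ab.app (op U) m) = ab.app (op V) (M1.mres M h m) := fun h m =>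
    (ConcreteCategory.congr_hom (ab.naturality (homOfLE h).op) m).symm
  have hlin : ∀ (U : X.Opensᵒᵖ) (r : Γ(X, U.unop)) (m : Γ(M, U.unop)),
      ab.app U (r • m) = r • (show Γ(N, U.unop) from ab.app U m) := fun U r m => by
    refine M1.section_ext _ _ fun x hx => ?_
    obtain ⟨V, hV, hxV, hVU⟩ := hP U.unop x hx
    rw [← M1.germ_mres N hVU hxV, ← M1.germ_mres N hVU hxV]
    refine congrArg _ ?_
    rw [M1.mres_smul]
    refine (hnat hVU (r • m)).trans ?_
    rw [M1.mres_smul, hab V hV, hsmul]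
    exact congrArg _ ((hab V hV _).symm.trans (hnat hVU m).symm)
  exact ⟨⟨PresheafOfModules.homMk ab fun U r m => hlin U r m⟩, fun V hV m => hab V hV m⟩

/-- complexes which are exact on a basis are exact -/
theorem exact_of_basis (hP : IsAffBasis P) (S : ShortComplex X.Modules)
    (h : ∀ V, P V → ∀ b : Γ(S.X₂, V.1), S.g.app V.1 b = 0 → ∃ a, S.f.app V.1 a = b) : S.Exact := by
  rw [M1.exact_iff_stalk_eq_zero]
  intro x b hb
  obtain ⟨U, hxU, s, rfl⟩ := S.X₂.presheaf.exists_germ_eq b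
  rw [M1.germ_naturality] at hb
  obtain ⟨W, hxW, i₁, i₂, he⟩ := S.X₃.presheaf.germ_eq x hxU hxU (S.g.app U s) 0 (hb.trans (map_zero _).symm)
  obtain ⟨V, hV, hxV, hVW⟩ := hP W x hxW
  obtain ⟨a, ha⟩ := h V hV (M1.mres S.X₂ (hVW.trans i₁.le) s) (by
    refine (M1.map_app_eq S.g (hVW.trans i₁.le) s).trans ?_
    change M1.mres S.X₃ (hVW.trans i₁.le) (S.g.app U s) = 0
    rw [← M1.mres_mres S.X₃ i₁.le hVW]
    refine (congrArg _ he).trans ?_
    rw [map_zero, map_zero])
  refine ⟨S.X₁.presheaf.germ V.1 x hxV a, ?_⟩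
  rw [M1.germ_naturality, ha, M1.germ_mres]

/-- a morphism bijective on a basis is stalkwise bijective -/
theorem bijective_stalk_of_basis (hP : IsAffBasis P) (f : M ⟶ N) (x : X)
    (h : ∀ V : X.affineOpens, P V → x ∈ V.1 → Function.Bijective (f.app V.1)) :
    Function.Bijective ((M1.stalkAb x).map f) := by
  constructor
  · rw [injective_iff_map_eq_zero]
    intro b hb
    obtain ⟨U, hxU, s, rfl⟩ := M.presheaf.exists_germ_eq b
    rw [M1.germ_naturality] at hb
    obtain ⟨W, hxW, i₁, i₂, he⟩ := N.presheaf.germ_eq x hxU hxU (f.app U s) 0 (hb.trans (map_zero _).symm)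
    obtain ⟨V, hV, hxV, hVW⟩ := hP W x hxW
    have h0 : M1.mres M (hVW.trans i₁.le) s = 0 := by
      apply (h V hV hxV).1
      rw [map_zero]
      refine (M1.map_app_eq f (hVW.trans i₁.le) s).trans ?_
      change M1.mres N (hVW.trans i₁.le) (f.app U s) = 0
      rw [← M1.mres_mres N i₁.le hVW]
      refine (congrArg _ he).trans ?_
      rw [map_zero, map_zero]
    rw [← M1.germ_mres M (hVW.trans i₁.le) hxV, h0, map_zero]
  · intro b
    obtain ⟨U, hxU, t, rfl⟩ := N.presheaf.exists_germ_eq b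
    obtain ⟨V, hV, hxV, hVU⟩ := hP U x hxU
    obtain ⟨a, ha⟩ := (h V hV hxV).2 (M1.mres N hVU t)
    refine ⟨M.presheaf.germ V.1 x hxV a, ?_⟩
    rw [M1.germ_naturality, ha, M1.germ_mres]

end Groth.Agent.KoszShH13
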