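import Groth.Agent.Lib.KoszShH13.Alg
import Groth.Agent.Lib.Depth.CM
import Mathlib.RingTheory.Ideal.MinimalPrime.Basic
import Mathlib.RingTheory.LocalProperties.Basic
import Mathlib.RingTheory.KrullDimension.NonZeroDivisors

/-! Elements regular on Koszul homology; unmixedness of complete intersections. -/

set_option autoImplicit false

universe u

open exteriorPower

namespace Groth.Agent.KoszShH13

section TReg

variable {R : Type u} [CommRing R] {M : Type u} [AddCommGroup M] [Module R M] {N : Type u} [AddCommGroup N]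
  [Module R N]

/-- `t` is regular on the Koszul homology of `φ` -/
def TReg (t : R) (φ : M →ₗ[R] R) : Prop :=
  (∀ (q : ℕ) (x : ⋀[R]^(q + 1) M), dK φ q x = 0 → ∀ y, dK φ (q + 1) y = t • x → ∃ y', dK φ (q + 1) y' = x) ∧
    ∀ (x : ⋀[R]^0 M) (y : ⋀[R]^1 M), dK φ 0 y = t • x → ∃ y', dK φ 0 y' = x

variable {t : R}

theorem TReg.retract {φ : M →ₗ[R] R} {ψ : N →ₗ[R] R} (h : TReg t ψ) (i : M →ₗ[R] N) (p : N →ₗ[R] M)
    (hi : ψ.comp i = φ) (hp : φ.comp p = ψ) (hpi : p.comp i = LinearMap.id) : TReg t φ := by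
  have hid : ∀ (n : ℕ) (x : ⋀[R]^n M), exteriorPower.map n p (exteriorPower.map n i x) = x := fun n x => by
    rw [← LinearMap.comp_apply, ← exteriorPower.map_comp, hpi, exteriorPower.map_id, LinearMap.id_apply]
  constructor
  · intro q x hx y hy
    obtain ⟨z, hz⟩ := h.1 q (exteriorPower.map (q + 1) i x) (by rw [dK_map _ _ _ hi, hx, map_zero])
      (exteriorPower.map (q + 2) i y) (by rw [dK_map _ _ _ hi, hy, map_smul])
    exact ⟨exteriorPower.map (q + 2) p z, by rw [dK_map _ _ _ hp, hz, hid]⟩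
  · intro x y hy
    obtain ⟨z, hz⟩ := h.2 (exteriorPower.map 0 i x) (exteriorPower.map 1 i y)
      (by rw [dK_map _ _ _ hi, hy, map_smul])
    exact ⟨exteriorPower.map 1 p z, by rw [dK_map _ _ _ hp, hz, hid]⟩

theorem TReg.of_acyc {φ : M →ₗ[R] R} (h : Acyc φ)
    (ht : ∀ c : R, t * c ∈ LinearMap.range φ → c ∈ LinearMap.range φ) : TReg t φ := by
  refine ⟨fun q x hx _ _ => h q x hx, fun x y hy => ?_⟩
  obtain ⟨c, hc⟩ := zero_deg x.1 x.2
  have hy1 := y.2
  change _ ∈ LinearMap.range (ExteriorAlgebra.ι R (M := M)) ^ 1 at hy1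
  rw [pow_one] at hy1
  obtain ⟨m, hm⟩ := hy1
  have e := congrArg Subtype.val hy
  rw [dK_coe, ← hm, show ct φ (ExteriorAlgebra.ι R m) = algebraMap R _ (φ m) from
    CliffordAlgebra.contractLeft_ι (Q := (0 : QuadraticForm R M)) φ m, Submodule.coe_smul, hc, Algebra.smul_def,
    ← map_mul] at e
  obtain ⟨m', hm'⟩ := ht c ⟨m, ExteriorAlgebra.algebraMap_leftInverse M |>.injective e⟩
  refine ⟨⟨ExteriorAlgebra.ι R m', ?_⟩, Subtype.ext ?_⟩
  · change _ ∈ LinearMap.range (ExteriorAlgebra.ι R (M := M)) ^ 1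
    rw [pow_one]
    exact LinearMap.mem_range_self _ m'
  · rw [dK_coe, hc, ← hm']
    exact CliffordAlgebra.contractLeft_ι (Q := (0 : QuadraticForm R M)) φ m'

/-- adding a zero -/
theorem TReg.prod_zero {φ : M →ₗ[R] R} (h : TReg t φ) : TReg t (φ.comp (LinearMap.fst R M R)) := by
  have hψ : φ.comp (LinearMap.fst R M R) = φ.coprod ((0 : R) • (LinearMap.id : R →ₗ[R] R)) := by
    refine LinearMap.ext fun p => ?_
    simp
  constructor
  · intro q x hx y hy
    obtain ⟨a, ha, b, hb, hab⟩ := decompose q x.1 x.2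
    obtain ⟨a', ha', b', hb', hab'⟩ := decompose (q + 1) y.1 y.2
    have hx' := congrArg Subtype.val hx
    rw [dK_coe, hψ, hab, ct_parts, ZeroMemClass.coe_zero, zero_smul, add_zero] at hx'
    obtain ⟨hA, hB⟩ := unique_parts _ _ hx'
    rw [neg_eq_zero] at hB
    have hy' := congrArg Subtype.val hy
    rw [dK_coe, hψ, hab', ct_parts, zero_smul, add_zero, Submodule.coe_smul, hab, smul_add, ← map_smul,
      ← mul_smul_comm, ← map_smul] at hy'
    obtain ⟨hA', hB'⟩ := unique_parts (ct φ a' - t • a) (-ct φ b' - t • b) (by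
      rw [map_sub, map_sub, mul_sub, ← sub_eq_zero.2 hy']; abel)
    rw [sub_eq_zero] at hA' hB'
    obtain ⟨g, hg⟩ := h.1 q ⟨a, ha⟩ (Subtype.ext hA) ⟨a', ha'⟩ (Subtype.ext hA')
    obtain ⟨c, hc⟩ : ∃ c : ⋀[R]^(q + 1) M, ct φ c.1 = b := by
      rcases q with _ | q
      · obtain ⟨c, hc⟩ := h.2 ⟨b, hb⟩ ⟨-b', neg_mem hb'⟩ (Subtype.ext (by rw [dK_coe, map_neg]; exact hB'))
        exact ⟨c, congrArg Subtype.val hc⟩
      · obtain ⟨c, hc⟩ := h.1 q ⟨b, hb⟩ (Subtype.ext hB) ⟨-b', neg_mem hb'⟩
          (Subtype.ext (by rw [dK_coe, map_neg]; exact hB'))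
        exact ⟨c, congrArg Subtype.val hc⟩
    refine ⟨exteriorPower.map (q + 2) (LinearMap.inl R M R) g - ⟨eLast R M *
      ExteriorAlgebra.map (LinearMap.inl R M R) c.1, CI2.ι_mul_mem _ ((map_coe (LinearMap.inl R M R) (q + 1) c) ▸
        Subtype.prop _)⟩, Subtype.ext ?_⟩
    rw [dK_coe, AddSubgroupClass.coe_sub, map_coe, hψ,
      show ExteriorAlgebra.map (LinearMap.inl R M R) g.1 - eLast R M * ExteriorAlgebra.map (LinearMap.inl R M R) c.1 =
        ExteriorAlgebra.map (LinearMap.inl R M R) g.1 + eLast R M * ExteriorAlgebra.map (LinearMap.inl R M R) (-c.1) by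
        rw [map_neg, mul_neg, sub_eq_add_neg], ct_parts, zero_smul, add_zero, map_neg (ct φ), hc, neg_neg,
      show ct φ g.1 = a from congrArg Subtype.val hg, ← hab]
  · intro x y hy
    obtain ⟨z, hz⟩ := h.2 (exteriorPower.map 0 (LinearMap.fst R M R) x)
      (exteriorPower.map 1 (LinearMap.fst R M R) y) (by rw [dK_map _ _ _ rfl, hy, map_smul])
    refine ⟨exteriorPower.map 1 (LinearMap.inl R M R) z, ?_⟩
    rw [dK_map (LinearMap.inl R M R) φ _ (by ext m; simp), hz]
    obtain ⟨c, hc⟩ := zero_deg x.1 x.2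
    refine Subtype.ext ?_
    rw [map_coe, map_coe, hc, AlgHom.commutes, AlgHom.commutes]

theorem TReg.prod_pi {φ : M →ₗ[R] R} (h : TReg t φ) :
    ∀ n : ℕ, TReg t (φ.comp (LinearMap.fst R M (Fin n → R))) := by
  intro n
  induction n with
  | zero =>
    refine h.retract (LinearMap.fst R M (Fin 0 → R)) (LinearMap.inl R M (Fin 0 → R)) rfl ?_ ?_
    · ext m; simp
    · exact LinearMap.ext fun p => Prod.ext rfl (Subsingleton.elim _ _)
  | succ n ih =>
    refine ih.prod_zero.retract
      { toFun := fun p => ((p.1, Fin.init p.2), p.2 (Fin.last n))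
        map_add' := fun p p' => rfl
        map_smul' := fun c p => rfl }
      { toFun := fun p => (p.1.1, Fin.snoc p.1.2 p.2)
        map_add' := fun p p' => Prod.ext rfl (by funext i; induction i using Fin.lastCases <;> simp)
        map_smul' := fun c p => Prod.ext rfl (by funext i; induction i using Fin.lastCases <;> simp) } rfl rfl ?_
    exact LinearMap.ext fun p => Prod.ext rfl (Fin.snoc_init_self _)

/-- `t` is regular on the Koszul homology of generators of an ideal generated by a regular sequence -/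
theorem treg_of_range_eq {m : ℕ} (b : Module.Basis (Fin m) R M) (φ : M →ₗ[R] R) (rs : List R)
    (hrs : RingTheory.Sequence.IsWeaklyRegular R rs) (hJ : LinearMap.range φ = Ideal.ofList rs)
    (ht : ∀ c : R, t * c ∈ Ideal.ofList rs → c ∈ Ideal.ofList rs) : TReg t φ := by
  set a : Fin rs.length → R := rs.get with ha
  have hls : List.ofFn a = rs := List.ofFn_get rs
  have hspan : Ideal.ofList rs = Ideal.span (Set.range a) := by
    rw [Ideal.ofList]
    congr 1
    ext r
    exact List.mem_iff_get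
  have hrange : LinearMap.range (CotT3.dotA a) = Ideal.ofList rs := by
    rw [hspan]
    ext r
    exact ⟨fun ⟨v, hv⟩ => hv ▸ CotT3.dotA_mem_span _ v, fun hr =>
      (CotT3.exists_dotA _ hr).elim fun c hc => ⟨c, hc.symm⟩⟩
  have h0 : TReg t (CotT3.dotA a) := by
    refine TReg.of_acyc (acyc_of_regA a ((CotT3.regA_iff_isWeaklyRegular _).2 (hls.symm ▸ hrs))) fun c hc => ?_
    rw [hrange] at hc ⊢
    exact ht c hc
  have hB : ∀ j, ∃ f, CotT3.dotA a f = φ (b j) := fun j =>
    (hrange.trans hJ.symm).ge (LinearMap.mem_range_self φ (b j))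
  have hA : ∀ j, ∃ e, φ e = CotT3.dotA a (Pi.basisFun R _ j) := fun j =>
    (hJ.trans hrange.symm).ge (LinearMap.mem_range_self _ _)
  choose f hf using hB
  choose e he using hA
  let B := b.constr R f
  let A := (Pi.basisFun R (Fin rs.length)).constr R e
  have hφB : (CotT3.dotA a).comp B = φ := b.ext fun j => by simp [B, hf]
  have hφA : φ.comp A = CotT3.dotA a := (Pi.basisFun R (Fin rs.length)).ext fun j => by
    rw [LinearMap.comp_apply, show A ((Pi.basisFun R (Fin rs.length)) j) = e j from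
      Module.Basis.constr_basis _ R e j, he]
  refine (h0.prod_pi m).retract (B.prod b.equivFun.toLinearMap)
    (A.comp (LinearMap.fst R _ _ - B.comp (b.equivFun.symm.toLinearMap.comp (LinearMap.snd R _ _))) +
      b.equivFun.symm.toLinearMap.comp (LinearMap.snd R _ _)) ?_ ?_ ?_
  · rw [LinearMap.comp_assoc, LinearMap.fst_prod, hφB]
  · rw [LinearMap.comp_add, ← LinearMap.comp_assoc, hφA, LinearMap.comp_sub, ← LinearMap.comp_assoc, hφB]
    exact LinearMap.ext fun v => by simp
  · exact LinearMap.ext fun v => by simp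

end TReg

section CM

open IsLocalRing

variable {R : Type u} [CommRing R] [IsLocalRing R] [IsNoetherianRing R]

theorem isCohenMacaulayModule_congr {M N : Type u} [AddCommGroup M] [Module R M] [AddCommGroup N] [Module R N]
    (e : M ≃ₗ[R] N) (h : LocCoh.IsCohenMacaulayModule R M) : LocCoh.IsCohenMacaulayModule R N := by
  unfold LocCoh.IsCohenMacaulayModule LocCoh.depth at *
  rwa [← DepthLib.idealDepth_congr e, ← Module.supportDim_eq_of_equiv e]

theorem isCohenMacaulayModule_quotient_ofList {M : Type u} [AddCommGroup M] [Module R M] [Module.Finite R M]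
    {rs : List R} (hrs : RingTheory.Sequence.IsWeaklyRegular M rs) (hm : ∀ r ∈ rs, r ∈ maximalIdeal R)
    (hM : LocCoh.IsCohenMacaulayModule R M) :
    LocCoh.IsCohenMacaulayModule R (M ⧸ (Ideal.ofList rs • ⊤ : Submodule R M)) := by
  induction rs generalizing M with
  | nil =>
    refine isCohenMacaulayModule_congr (Submodule.quotEquivOfEqBot _ ?_).symm hM
    rw [Ideal.ofList_nil, Submodule.bot_smul]
  | cons r rs ih =>
    rw [RingTheory.Sequence.isWeaklyRegular_cons_iff] at hrs
    refine isCohenMacaulayModule_congr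
      (Submodule.quotOfListConsSMulTopEquivQuotSMulTopInner M r rs).symm
      (ih hrs.2 (fun r' hr' => hm r' (List.mem_cons_of_mem _ hr')) ?_)
    exact (DepthLib.isCohenMacaulayModule_quotSMulTop_iff (hm r (List.mem_cons_self ..)) hrs.1).2 hM

theorem quotient_regular_of_forall_minimalPrimes [IsRegularLocalRing R] {rs : List R}
    (hrs : RingTheory.Sequence.IsWeaklyRegular R rs) (hm : ∀ r ∈ rs, r ∈ maximalIdeal R) {t : R}
    (ht : ∀ p ∈ (Ideal.ofList rs).minimalPrimes, t ∉ p) (c : R) (hc : t * c ∈ Ideal.ofList rs) :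
    c ∈ Ideal.ofList rs := by
  have := DepthLib.isCohenMacaulayLocalRing_of_isRegularLocalRing (R := R)
  set J := Ideal.ofList rs
  have hM : LocCoh.IsCohenMacaulayModule R (R ⧸ J) :=
    isCohenMacaulayModule_congr (Submodule.quotEquivOfEq _ _ (by simp [J]))
      (isCohenMacaulayModule_quotient_ofList hrs hm LocCoh.IsCohenMacaulayLocalRing.supportDim_eq_depth)
  by_contra hcJ
  have hne : Ideal.Quotient.mk J c ≠ 0 := fun h => hcJ (Ideal.Quotient.eq_zero_iff_mem.1 h)
  obtain ⟨p, hp, htp⟩ : ∃ p ∈ associatedPrimes R (R ⧸ J), t ∈ p := by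
    have : t ∈ ⋃ p ∈ associatedPrimes R (R ⧸ J), (p : Set R) := by
      rw [biUnion_associatedPrimes_eq_zero_divisors]
      exact ⟨_, hne, (Ideal.Quotient.eq_zero_iff_mem.2 hc : Ideal.Quotient.mk J (t * c) = 0)⟩
    simpa using this
  haveI := IsAssociatedPrime.isPrime hp
  have hdim := DepthLib.ringKrullDim_quotient_eq_of_mem_associatedPrimes hM hp
  have hsup := DepthLib.mem_support_of_mem_associatedPrimes hp
  have hJp : J ≤ p := by
    rw [Module.mem_support_iff_of_finite, Ideal.annihilator_quotient] at hsup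
    exact hsup
  refine ht p ⟨⟨inferInstance, hJp⟩, fun q hq hqp => ?_⟩ htp
  haveI := hq.1
  by_contra hpq
  have hlt : q < p := lt_of_le_not_ge hqp hpq
  have h1 : ringKrullDim (R ⧸ q) ≤ Module.supportDim R (R ⧸ J) :=
    DepthLib.ringKrullDim_quotient_le_supportDim (by
      rw [Module.mem_support_iff_of_finite, Ideal.annihilator_quotient]
      exact hq.2)
  have h2 : ringKrullDim (R ⧸ p) < ringKrullDim (R ⧸ q) := by
    obtain ⟨x, hxp, hxq⟩ := SetLike.exists_of_lt hlt
    have hle := ringKrullDim_succ_le_of_surjective (Ideal.Quotient.factor hqp)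
      (Ideal.Quotient.factor_surjective hqp) (r := Ideal.Quotient.mk q x)
      (mem_nonZeroDivisors_of_ne_zero fun h => hxq (Ideal.Quotient.eq_zero_iff_mem.1 h))
      (Ideal.Quotient.eq_zero_iff_mem.2 hxp)
    obtain ⟨r, hr⟩ := DepthLib.exists_ringKrullDim_quotient_eq_natCast p (IsAssociatedPrime.isPrime hp).ne_top
    obtain ⟨r', hr'⟩ := DepthLib.exists_ringKrullDim_quotient_eq_natCast q hq.1.ne_top
    rw [hr, hr'] at hle ⊢
    have : r + 1 ≤ r' := by exact_mod_cast hle
    exact_mod_cast Nat.lt_of_succ_le this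
  exact absurd h1 (not_le.2 (hdim ▸ h2))

end CM

end Groth.Agent.KoszShH13
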