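import Groth.Agent.Lib.KoszShH13.Cx
import Groth.Agent.Lib.TensorMod.IdealMod
import Groth.Agent.Lib.ModM1.ClosedImm
import Groth.Agent.Lib.TensorMod.Hom
import Groth.Prelude.Def_SecTwist
import Groth.Prelude.Def_KoszTw

/-! Stalks of twisted tensor products and of the restriction to a locally principal closed subscheme. -/

set_option autoImplicit false
set_option backward.isDefEq.respectTransparency false
set_option backward.isDefEq.respectTransparency.types false

universe u

open CategoryTheory Limits AlgebraicGeometry Opposite TopologicalSpace TensorProduct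

namespace Groth.Agent.KoszShH13

variable {X : Scheme.{u}}

/-- a morphism on stalks, as a linear map -/
noncomputable def stLin {M N : X.Modules} (f : M ⟶ N) (z : X) :
    (M.presheaf.stalk z : Type u) →ₗ[X.presheaf.stalk z] (N.presheaf.stalk z : Type u) where
  toFun := (M1.stalkAb z).map f
  map_add' := map_add ((M1.stalkAb z).map f).hom
  map_smul' r a := by
    obtain ⟨U, hU, s, rfl⟩ := M.presheaf.germ_exist a
    obtain ⟨V, hV, c, rfl⟩ := X.presheaf.germ_exist r
    rw [← TopCat.Presheaf.germ_res_apply M.presheaf (homOfLE (inf_le_left : U ⊓ V ≤ U)) z ⟨hU, hV⟩ s,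
      ← TopCat.Presheaf.germ_res_apply X.presheaf (homOfLE (inf_le_right : U ⊓ V ≤ V)) z ⟨hU, hV⟩ c]
    rw [← M1.germ_smul, M1.germ_naturality, M1.germ_naturality, Scheme.Modules.Hom.app_smul, M1.germ_smul]
    rfl

theorem stLin_germ {M N : X.Modules} (f : M ⟶ N) {U : X.Opens} {z : X} (hz : z ∈ U) (s : Γ(M, U)) :
    stLin f z (M.presheaf.germ U z hz s) = N.presheaf.germ U z hz (f.app U s) :=
  M1.germ_naturality f U z hz s

theorem stLin_comp {M N P : X.Modules} (f : M ⟶ N) (g : N ⟶ P) (z : X) (a : (M.presheaf.stalk z : Type u)) :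
    stLin (f ≫ g) z a = stLin g z (stLin f z a) :=
  ConcreteCategory.congr_hom ((M1.stalkAb z).map_comp f g) a

theorem stLin_zero {M N : X.Modules} (z : X) (a : (M.presheaf.stalk z : Type u)) :
    stLin (0 : M ⟶ N) z a = 0 := by
  show (M1.stalkAb z).map 0 a = 0
  rw [Functor.map_zero]
  rfl

theorem stLin_id {M : X.Modules} (z : X) (a : (M.presheaf.stalk z : Type u)) : stLin (𝟙 M) z a = a :=
  ConcreteCategory.congr_hom ((M1.stalkAb z).map_id M) a

theorem exists_germ_good {P : X.affineOpens → Prop} (hP : IsAffBasis P) (M : X.Modules) {z : X} {U : X.Opens}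
    (hz : z ∈ U) (a : (M.presheaf.stalk z : Type u)) :
    ∃ V : X.affineOpens, P V ∧ ∃ (hzV : z ∈ V.1) (_ : V.1 ≤ U) (s : Γ(M, V.1)), M.presheaf.germ V.1 z hzV s = a := by
  obtain ⟨W, hW, s, rfl⟩ := M.presheaf.germ_exist a
  obtain ⟨V, hV, hzV, hVW⟩ := hP (U ⊓ W) z ⟨hz, hW⟩
  exact ⟨V, hV, hzV, hVW.trans inf_le_left, M1.mres M (hVW.trans inf_le_right) s,
    M1.germ_mres M (hVW.trans inf_le_right) hzV s⟩

theorem germ_eq_zero {P : X.affineOpens → Prop} (hP : IsAffBasis P) (M : X.Modules) {z : X} {U : X.Opens}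
    (hz : z ∈ U) (s : Γ(M, U)) (h : M.presheaf.germ U z hz s = 0) :
    ∃ V : X.affineOpens, P V ∧ z ∈ V.1 ∧ ∃ h : V.1 ≤ U, M1.mres M h s = 0 := by
  obtain ⟨W, hzW, i₁, i₂, he⟩ := M.presheaf.germ_eq z hz hz s 0 (h.trans (map_zero _).symm)
  obtain ⟨V, hV, hzV, hVW⟩ := hP W z hzW
  refine ⟨V, hV, hzV, hVW.trans i₁.le, ?_⟩
  rw [← M1.mres_mres M i₁.le hVW]
  refine (congrArg _ he).trans ?_
  rw [map_zero, map_zero]

section Tensor

theorem tmul_smul_left {M N : X.Modules} {U : X.Opens} (r : Γ(X, U)) (m : Γ(M, U)) (n : Γ(N, U)) :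
    SecTwist.tmul M N U (r • m) n = r • (show Γ(CohB1.tensorMod M N, U) from SecTwist.tmul M N U m n) :=
  M2.tsec_smul_left r m n

theorem tmul_smul_right {M N : X.Modules} {U : X.Opens} (r : Γ(X, U)) (m : Γ(M, U)) (n : Γ(N, U)) :
    SecTwist.tmul M N U m (r • n) = r • (show Γ(CohB1.tensorMod M N, U) from SecTwist.tmul M N U m n) :=
  M2.tsec_smul_right r m n

theorem tmul_add_left {M N : X.Modules} {U : X.Opens} (m m' : Γ(M, U)) (n : Γ(N, U)) :
    (show Γ(CohB1.tensorMod M N, U) from SecTwist.tmul M N U (m + m') n) =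
      (show Γ(CohB1.tensorMod M N, U) from SecTwist.tmul M N U m n) +
        (show Γ(CohB1.tensorMod M N, U) from SecTwist.tmul M N U m' n) :=
  M2.tsec_add_left m m' n

theorem mres_tmul {M N : X.Modules} {U V : X.Opens} (h : V ≤ U) (m : Γ(M, U)) (n : Γ(N, U)) :
    M1.mres (CohB1.tensorMod M N) h (SecTwist.tmul M N U m n) =
      SecTwist.tmul M N V (M1.mres M h m) (M1.mres N h n) :=
  SecTwist.map_tmul M N (homOfLE h) m n

theorem stalkEquiv_tmul {M N : X.Modules} {U : X.Opens} {z : X} (hz : z ∈ U) (m : Γ(M, U)) (n : Γ(N, U)) :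
    M2.stalkEquiv M N z ((CohB1.tensorMod M N).presheaf.germ U z hz (SecTwist.tmul M N U m n)) =
      M.presheaf.germ U z hz m ⊗ₜ N.presheaf.germ U z hz n :=
  M2.stalkEquiv_tsec M N z hz m n

variable {W : X.Modules} {z : X}

/-- `w` generates the free stalk `W_z` -/
def IsGenAt (W : X.Modules) (z : X) (w : (W.presheaf.stalk z : Type u)) : Prop :=
  Function.Bijective fun r : X.presheaf.stalk z => r • w

variable (M : X.Modules) (w : (W.presheaf.stalk z : Type u))

/-- `m ↦ m ⊗ w` on stalks -/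
noncomputable def tau : (M.presheaf.stalk z : Type u) →ₗ[X.presheaf.stalk z]
    ((CohB1.tensorMod M W).presheaf.stalk z : Type u) :=
  (M2.stalkEquiv M W z).symm.toLinearMap.comp ((TensorProduct.mk _ _ _).flip w)

theorem tau_germ {U : X.Opens} (hz : z ∈ U) (w' : Γ(W, U)) (hw : W.presheaf.germ U z hz w' = w) (m : Γ(M, U)) :
    tau M w (M.presheaf.germ U z hz m) =
      (CohB1.tensorMod M W).presheaf.germ U z hz (SecTwist.tmul M W U m w') := by
  apply (M2.stalkEquiv M W z).injective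
  rw [stalkEquiv_tmul, hw]
  exact (M2.stalkEquiv M W z).apply_symm_apply _

variable {w}

theorem bijective_tau (hw : IsGenAt W z w) : Function.Bijective (tau M w) := by
  let e : X.presheaf.stalk z ≃ₗ[X.presheaf.stalk z] (W.presheaf.stalk z : Type u) :=
    LinearEquiv.ofBijective (LinearMap.toSpanSingleton _ _ w) hw
  have h : tau M w = ((TensorProduct.rid _ _).symm ≪≫ₗ TensorProduct.congr (LinearEquiv.refl _ _) e ≪≫ₗ
      (M2.stalkEquiv M W z).symm).toLinearMap := by
    refine LinearMap.ext fun m => ?_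
    simp [tau, e]
  rw [h]
  exact LinearEquiv.bijective _

variable {M}

theorem stLin_tau {N : X.Modules} (f : M ⟶ N) {U : X.Opens} (hz : z ∈ U) (w' : Γ(W, U))
    (hw : W.presheaf.germ U z hz w' = w) (m : (M.presheaf.stalk z : Type u)) :
    stLin (KoszTw.tensorMap f (𝟙 W)) z (tau M w m) = tau N w (stLin f z m) := by
  obtain ⟨V, -, hzV, hVU, s, rfl⟩ := exists_germ_good isAffBasis_top M hz m
  rw [tau_germ M w hzV (M1.mres W hVU w') ((M1.germ_mres W hVU hzV w').trans hw), stLin_germ, stLin_germ,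
    tau_germ N w hzV (M1.mres W hVU w') ((M1.germ_mres W hVU hzV w').trans hw)]
  refine congrArg _ ?_
  exact (KoszTw.tensorMap_tmul f (𝟙 W) V.1 _ _).trans rfl

end Tensor

section Quot

variable (ID : X.IdealSheafData)

theorem isUnit_germ_of_not_mem (U : X.affineOpens) (g : Γ(X, U.1)) (hg : ID.ideal U = Ideal.span {g}) {x : X}
    (hxU : x ∈ U.1) (hx : x ∉ Set.range ID.subschemeι) : IsUnit (X.presheaf.germ U.1 x hxU g) := by
  have hx' : x ∉ ID.subschemeι.ker.support := fun h' => hx <| by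
    have h'' : x ∈ closure (Set.range ID.subschemeι) := by rw [← Scheme.Hom.support_ker]; exact h'
    rwa [ID.subschemeι.isClosedEmbedding.isClosed_range.closure_eq] at h''
  rw [ID.ker_subschemeι, Scheme.IdealSheafData.mem_support_iff_of_mem (U := U) hxU,
    Scheme.mem_zeroLocus_iff] at hx'
  push Not at hx'
  obtain ⟨b, hb, hxb⟩ := hx'
  rw [SetLike.mem_coe, hg, Ideal.mem_span_singleton'] at hb
  obtain ⟨a, rfl⟩ := hb
  have hu := (X.mem_basicOpen _ x hxU).mp hxb
  rw [map_mul] at hu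
  exact isUnit_of_mul_isUnit_right hu

theorem mem_span_of_stalkMap_eq_zero (U : X.affineOpens) (g : Γ(X, U.1)) (hg : ID.ideal U = Ideal.span {g})
    (z : ID.subscheme) (hzU : ID.subschemeι z ∈ U.1) (r : X.presheaf.stalk (ID.subschemeι z))
    (hr : ID.subschemeι.stalkMap z r = 0) :
    r ∈ Ideal.span {X.presheaf.germ U.1 (ID.subschemeι z) hzU g} := by
  let i := ID.subschemeι
  let := TopCat.Presheaf.algebra_section_stalk X.presheaf (⟨i z, hzU⟩ : U.1)
  have := U.2.isLocalization_stalk ⟨i z, hzU⟩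
  obtain ⟨⟨b, c₂⟩, hb⟩ := IsLocalization.surj (U.2.primeIdealOf ⟨i z, hzU⟩).asIdeal.primeCompl r
  have hb' : r * X.presheaf.germ U.1 (i z) hzU c₂.1 = X.presheaf.germ U.1 (i z) hzU b := hb
  have hzU' : z ∈ i ⁻¹ᵁ U.1 := hzU
  let := TopCat.Presheaf.algebra_section_stalk ID.subscheme.presheaf (⟨z, hzU'⟩ : (i ⁻¹ᵁ U.1 : ID.subscheme.Opens))
  have := (U.2.preimage i).isLocalization_stalk ⟨z, hzU'⟩
  have hb0 : algebraMap Γ(ID.subscheme, i ⁻¹ᵁ U.1) (ID.subscheme.presheaf.stalk z) (i.app U.1 b) = 0 := by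
    change ID.subscheme.presheaf.germ (i ⁻¹ᵁ U.1) z hzU' (i.app U.1 b) = 0
    rw [← Scheme.Hom.germ_stalkMap_apply i U.1 z hzU, ← hb', map_mul, hr, zero_mul]
  obtain ⟨d, hd⟩ := (IsLocalization.map_eq_zero_iff
    ((U.2.preimage i).primeIdealOf ⟨z, hzU'⟩).asIdeal.primeCompl (ID.subscheme.presheaf.stalk z) _).mp hb0
  obtain ⟨c, hc⟩ := i.app_surjective U.1 U.2 d.1
  have hcu : IsUnit (X.presheaf.germ U.1 (i z) hzU c) := by
    refine isUnit_of_map_unit (i.stalkMap z).hom _ ?_
    rw [Scheme.Hom.germ_stalkMap_apply, hc]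
    exact (M1.isUnit_germ_iff (U.2.preimage i) hzU' d.1).mpr d.2
  have hcb : c * b ∈ ID.ideal U := by
    rw [← ID.ker_subschemeι, Scheme.Hom.ker_apply, RingHom.mem_ker, map_mul, hc]
    exact hd
  rw [hg, Ideal.mem_span_singleton'] at hcb
  obtain ⟨a, ha⟩ := hcb
  obtain ⟨v, hv⟩ := hcu.mul ((M1.isUnit_germ_iff U.2 hzU c₂.1).mpr c₂.2)
  have hmul : (↑v : X.presheaf.stalk (i z)) * r = X.presheaf.germ U.1 (i z) hzU a * X.presheaf.germ U.1 (i z) hzU g := by
    rw [← map_mul, ha, map_mul, ← hb', hv]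
    ring
  exact Ideal.mem_span_singleton'.mpr ⟨↑v⁻¹ * X.presheaf.germ U.1 (i z) hzU a, by
    rw [mul_assoc, ← hmul, Units.inv_mul_cancel_left]⟩

theorem stalkMap_generator_eq_zero (U : X.affineOpens) (g : Γ(X, U.1)) (hg : ID.ideal U = Ideal.span {g})
    (z : ID.subscheme) (hzU : ID.subschemeι z ∈ U.1) :
    ID.subschemeι.stalkMap z (X.presheaf.germ U.1 (ID.subschemeι z) hzU g) = 0 := by
  have h : g ∈ ID.ideal U := hg ▸ Ideal.subset_span rfl
  rw [← ID.ker_subschemeι, Scheme.Hom.ker_apply, RingHom.mem_ker] at h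
  rw [Scheme.Hom.germ_stalkMap_apply, h, map_zero]

/-- the restriction to `D` on the stalk -/
noncomputable abbrev unitD (M : X.Modules) :
    M ⟶ (Scheme.Modules.pullback ID.subschemeι ⋙ Scheme.Modules.pushforward ID.subschemeι).obj M :=
  (Scheme.Modules.pullbackPushforwardAdjunction ID.subschemeι).unit.app M

theorem unitD_stalk (M : X.Modules) (U : X.affineOpens) (g : Γ(X, U.1)) (hg : ID.ideal U = Ideal.span {g})
    {x : X} (hxU : x ∈ U.1) :
    Function.Surjective (stLin (unitD ID M) x) ∧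
      ∀ m, stLin (unitD ID M) x m = 0 ↔ ∃ m', X.presheaf.germ U.1 x hxU g • m' = m := by
  set i := ID.subschemeι
  set N := (Scheme.Modules.pullback i).obj M
  by_cases hx : x ∈ Set.range i
  · obtain ⟨z, rfl⟩ := hx
    set t := X.presheaf.germ U.1 (i z) hxU g
    have hp : Function.Bijective (TopCat.Presheaf.stalkPushforward AddCommGrpCat.{u} i.base N.presheaf z) := by
      have := TopCat.Presheaf.stalkPushforward.stalkPushforward_iso_of_isInducing (C := AddCommGrpCat.{u})
        (f := i.base) i.isClosedEmbedding.isInducing N.presheaf z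
      exact ConcreteCategory.bijective_of_isIso _
    let mk : M.presheaf.stalk (i z) → M2.BC i z M := fun m => (1 : ID.subscheme.presheaf.stalk z) ⊗ₜ m
    have hu : ∀ m, TopCat.Presheaf.stalkPushforward AddCommGrpCat.{u} i.base N.presheaf z (stLin (unitD ID M) (i z) m) =
        M2.pullStalkEquiv i z M (mk m) := fun m =>
      (LinearMap.liftBaseChange_one_tmul _ (M2.stalkUnit i z M) m).symm
    have hsurj : Function.Surjective mk := fun w => by
      induction w using TensorProduct.induction_on with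
      | zero => exact ⟨0, TensorProduct.tmul_zero _ _⟩
      | tmul s m =>
        obtain ⟨r, rfl⟩ := i.stalkMap_surjective z s
        refine ⟨r • m, ?_⟩
        show (1 : ID.subscheme.presheaf.stalk z) ⊗ₜ (r • m) = _
        rw [← TensorProduct.smul_tmul, ← Algebra.algebraMap_eq_smul_one]
        rfl
      | add a b ha hb =>
        obtain ⟨p, rfl⟩ := ha
        obtain ⟨q, rfl⟩ := hb
        exact ⟨p + q, TensorProduct.tmul_add _ _ _⟩
    refine ⟨fun b => ?_, fun m => ⟨fun hm => ?_, ?_⟩⟩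
    · obtain ⟨m, hm⟩ := hsurj ((M2.pullStalkEquiv i z M).symm
        (TopCat.Presheaf.stalkPushforward AddCommGrpCat.{u} i.base N.presheaf z b))
      refine ⟨m, hp.1 ?_⟩
      rw [hu, hm, LinearEquiv.apply_symm_apply]
    · have h1 : mk m = 0 := (M2.pullStalkEquiv i z M).injective (by
        rw [← hu, hm, map_zero, map_zero])
      let T := LinearMap.range (LinearMap.lsmul _ (M.presheaf.stalk (i z) : Type u) t)
      have hk : ∀ r : X.presheaf.stalk (i z), algebraMap (X.presheaf.stalk (i z)) (ID.subscheme.presheaf.stalk z) r = 0 →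
          ∀ q : (M.presheaf.stalk (i z) : Type u) ⧸ T, r • q = 0 := by
        intro r hr q
        obtain ⟨q, rfl⟩ := Submodule.mkQ_surjective T q
        obtain ⟨c, hc⟩ := Ideal.mem_span_singleton'.mp (mem_span_of_stalkMap_eq_zero ID U g hg z hxU r hr)
        rw [← map_smul, Submodule.mkQ_apply, Submodule.Quotient.mk_eq_zero]
        exact ⟨c • q, by rw [LinearMap.lsmul_apply, smul_smul, ← hc, mul_comm]⟩
      have h2 : T.mkQ m = 0 := (M1.bijective_one_tmul (i.stalkMap_surjective z) hk).1 (by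
        have h3 := congrArg (LinearMap.lTensor (ID.subscheme.presheaf.stalk z) T.mkQ) h1
        rw [map_zero] at h3
        exact h3.trans (TensorProduct.tmul_zero _ _).symm)
      rw [Submodule.mkQ_apply, Submodule.Quotient.mk_eq_zero] at h2
      exact h2
    · rintro ⟨m', rfl⟩
      refine hp.1 ?_
      rw [hu, map_zero]
      have h0 : algebraMap (X.presheaf.stalk (i z)) (ID.subscheme.presheaf.stalk z) t = 0 :=
        stalkMap_generator_eq_zero ID U g hg z hxU
      show M2.pullStalkEquiv i z M (_ ⊗ₜ _) = 0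
      rw [← TensorProduct.smul_tmul, ← Algebra.algebraMap_eq_smul_one, h0, TensorProduct.zero_tmul, map_zero]
  · refine ⟨fun b => ⟨0, (map_zero _).trans (M1.eq_zero_stalk_push i N hx b).symm⟩,
      fun m => ⟨fun _ => ?_, fun _ => M1.eq_zero_stalk_push i N hx _⟩⟩
    obtain ⟨v, hv⟩ := isUnit_germ_of_not_mem ID U g hg hxU hx
    exact ⟨(↑v⁻¹ : X.presheaf.stalk x) • m, by rw [← hv, smul_smul, Units.mul_inv, one_smul]⟩

end Quot

end Groth.Agent.KoszShH13
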