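import Groth.Agent.Lib.KoszShH13.Stalk
import Groth.Prelude.Def_ClSub2
import Groth.Prelude.Def_BlowUp2
import Mathlib.LinearAlgebra.ExteriorPower.Basis

/-! The Koszul complex of twisted divisors as a twist of the Koszul complex. -/

set_option autoImplicit false
set_option backward.isDefEq.respectTransparency false
set_option backward.isDefEq.respectTransparency.types false

universe u

open CategoryTheory Limits AlgebraicGeometry Opposite TopologicalSpace exteriorPower

namespace Groth.Agent.KoszShH13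

variable {X : Scheme.{u}}

section Gen

/-- `g` is a regular generator of the ideal on `U` -/
def IsGen (I : X.IdealSheafData) (U : X.affineOpens) (g : Γ(X, U.1)) : Prop :=
  g ∈ nonZeroDivisors Γ(X, U.1) ∧ I.ideal U = Ideal.span {g}

theorem germ_mem_nonZeroDivisors {U : X.affineOpens} {g : Γ(X, U.1)} (hg : g ∈ nonZeroDivisors Γ(X, U.1)) {z : X}
    (hz : z ∈ U.1) : X.presheaf.germ U.1 z hz g ∈ nonZeroDivisors (X.presheaf.stalk z) := by
  let := TopCat.Presheaf.algebra_section_stalk X.presheaf (⟨z, hz⟩ : U.1)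
  have := U.2.isLocalization_stalk ⟨z, hz⟩
  exact IsLocalization.map_nonZeroDivisors_le (U.2.primeIdealOf ⟨z, hz⟩).asIdeal.primeCompl
    (X.presheaf.stalk z) ⟨g, hg, rfl⟩

theorem IsGen.res {I : X.IdealSheafData} {U V : X.affineOpens} (h : V.1 ≤ U.1) {g : Γ(X, U.1)}
    (hg : IsGen I U g) : IsGen I V (M1.ores h g) := by
  refine ⟨?_, ?_⟩
  · rw [mem_nonZeroDivisors_iff_right]
    intro c hc
    refine TopCat.Presheaf.section_ext X.sheaf V.1 c 0 fun z hz => ?_
    show X.presheaf.germ V.1 z hz c = X.presheaf.germ V.1 z hz 0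
    rw [map_zero]
    have e := congrArg (X.presheaf.germ V.1 z hz) hc
    rw [map_mul, map_zero] at e
    have hu : X.presheaf.germ V.1 z hz (M1.ores h g) ∈ nonZeroDivisors (X.presheaf.stalk z) := by
      rw [TopCat.Presheaf.germ_res_apply]
      exact germ_mem_nonZeroDivisors hg.1 (h hz)
    exact (mul_right_mem_nonZeroDivisors_eq_zero_iff hu).1 e
  · rw [← I.map_ideal h, hg.2, Ideal.map_span, Set.image_singleton]
    rfl

theorem IsGen.mem {I : X.IdealSheafData} {U : X.affineOpens} {g : Γ(X, U.1)} (hg : IsGen I U g) :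
    g ∈ I.ideal U := hg.2 ▸ Ideal.subset_span rfl

/-- affine opens where all the divisors are principal -/
def GoodAff {n : ℕ} (IY : Fin n → X.IdealSheafData) (ID : X.IdealSheafData) (U : X.affineOpens) : Prop :=
  (∃ g, IsGen ID U g) ∧ ∀ i, ∃ g, IsGen (IY i) U g

theorem isAffBasis_good {n : ℕ} {IY : Fin n → X.IdealSheafData} {ID : X.IdealSheafData}
    (hY : ∀ i, BlowUp.IsEffCartierIdeal (IY i)) (hD : BlowUp.IsEffCartierIdeal ID) :
    IsAffBasis (GoodAff IY ID) := by
  intro W x hx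
  obtain ⟨U₀, hx₀, g₀, hg₀⟩ := hD x
  choose U hxU g hg using fun i => hY i x
  let W' : X.Opens := W ⊓ U₀.1 ⊓ Finset.univ.inf fun i => (U i).1
  have hx' : x ∈ W' := by
    refine ⟨⟨hx, hx₀⟩, ?_⟩
    show x ∈ ((Finset.univ.inf fun i => (U i).1 : X.Opens) : Set X)
    rw [Opens.coe_finset_inf]
    simp [Finset.inf_eq_iInf, hxU]
  obtain ⟨V, -, hxV, hVW⟩ := isAffBasis_top W' x hx'
  refine ⟨V, ⟨⟨_, IsGen.res (hVW.trans (inf_le_left.trans inf_le_right)) ⟨hg₀.1, hg₀.2⟩⟩,
    fun i => ⟨_, IsGen.res (hVW.trans (inf_le_right.trans (Finset.inf_le (Finset.mem_univ i)))) (hg i)⟩⟩,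
    hxV, hVW.trans (inf_le_left.trans inf_le_left)⟩

theorem isGenAt_of_sections {W : X.Modules} {U : X.Opens} {z : X} (hz : z ∈ U) (a : Γ(W, U))
    (h : ∀ V : X.Opens, ∀ hV : V ≤ U, Function.Bijective fun r : Γ(X, V) => r • M1.mres W hV a) :
    IsGenAt W z (W.presheaf.germ U z hz a) := by
  constructor
  · intro r r' e
    obtain ⟨A, hA, c, rfl⟩ := X.presheaf.germ_exist r
    obtain ⟨B, hB, c', rfl⟩ := X.presheaf.germ_exist r'
    let V : X.Opens := A ⊓ B ⊓ U
    have hzV : z ∈ V := ⟨⟨hA, hB⟩, hz⟩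
    rw [← TopCat.Presheaf.germ_res_apply X.presheaf (homOfLE (inf_le_left.trans inf_le_left : V ≤ A)) z hzV c,
      ← TopCat.Presheaf.germ_res_apply X.presheaf (homOfLE (inf_le_left.trans inf_le_right : V ≤ B)) z hzV c'] at e ⊢
    simp only [← M1.germ_mres W (inf_le_right : V ≤ U) hzV, ← M1.germ_smul] at e
    obtain ⟨V', hzV', i₁, i₂, he⟩ := W.presheaf.germ_eq z hzV hzV _ _ e
    rw [← TopCat.Presheaf.germ_res_apply X.presheaf i₁ z hzV', ← TopCat.Presheaf.germ_res_apply X.presheaf i₁ z hzV'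
      (X.presheaf.map (homOfLE (inf_le_left.trans inf_le_right : V ≤ B)).op c')]
    refine congrArg _ ((h V' (i₁.le.trans inf_le_right)).1 ?_)
    show _ • _ = _ • _
    rw [← M1.mres_mres W (inf_le_right : V ≤ U) i₁.le a]
    exact (M1.mres_smul W i₁.le _ _).symm.trans (he.trans (M1.mres_smul W i₁.le _ _))
  · intro b
    obtain ⟨A, hA, s, rfl⟩ := W.presheaf.germ_exist b
    obtain ⟨c, hc⟩ := (h (A ⊓ U) inf_le_right).2 (M1.mres W inf_le_left s)
    refine ⟨X.presheaf.germ (A ⊓ U) z ⟨hA, hz⟩ c, ?_⟩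
    rw [← M1.germ_mres W (inf_le_left : A ⊓ U ≤ A) ⟨hA, hz⟩ s, ← hc, M1.germ_smul, M1.germ_mres]

end Gen

section Ideal

variable (I : X.IdealSheafData) {U : X.affineOpens}

/-- the section of the ideal module with given value -/
noncomputable def idealLift (v : Γ(X, U.1)) (hv : v ∈ I.ideal U) : Γ(ClSub.idealMod I, U.1) :=
  ((M2.range_idealIncl I U).ge hv).choose

theorem incl_idealLift (v : Γ(X, U.1)) (hv : v ∈ I.ideal U) : M2.idealIncl I (idealLift I v hv) = v :=
  ((M2.range_idealIncl I U).ge hv).choose_spec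

theorem idealLift_smul (c v : Γ(X, U.1)) (hv : v ∈ I.ideal U) (hcv : c * v ∈ I.ideal U) :
    idealLift I (c * v) hcv = c • idealLift I v hv :=
  M2.idealIncl_injective I _ (by rw [incl_idealLift, M2.idealIncl_smul, incl_idealLift])

theorem idealIncl_mem (a : Γ(ClSub.idealMod I, U.1)) : M2.idealIncl I a ∈ I.ideal U :=
  (M2.range_idealIncl I U).le ⟨a, rfl⟩

theorem isGenAt_idealLift {g : Γ(X, U.1)} (hg : IsGen I U g) {z : X} (hz : z ∈ U.1) :
    IsGenAt (ClSub.idealMod I) z ((ClSub.idealMod I).presheaf.germ U.1 z hz (idealLift I g hg.mem)) :=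
  isGenAt_of_sections hz _ (M2.isGenerator_idealMod I g hg.1 hg.2 _ (incl_idealLift I g hg.mem))

/-- `g^{⊗ p}` -/
noncomputable def powGen (p : ℕ) (g : Γ(X, U.1)) (hg : g ∈ I.ideal U) :
    Γ(CohB1.tensorPow (ClSub.idealMod I) p, U.1) :=
  KoszTw.tprod (ClSub.idealMod I) p U.1 fun _ => idealLift I g hg

theorem powGen_smul (p : ℕ) (c g : Γ(X, U.1)) (hg : g ∈ I.ideal U) (hcg : c * g ∈ I.ideal U) :
    powGen I p (c * g) hcg = c ^ p • powGen I p g hg := by
  induction p with
  | zero => rw [pow_zero, one_smul]; rfl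
  | succ p ih =>
    show SecTwist.tmul _ _ U.1 (powGen I p (c * g) hcg) (idealLift I (c * g) hcg) =
      c ^ (p + 1) • (show Γ(CohB1.tensorMod (CohB1.tensorPow (ClSub.idealMod I) p) (ClSub.idealMod I), U.1) from
        SecTwist.tmul _ _ U.1 (powGen I p g hg) (idealLift I g hg))
    rw [ih, idealLift_smul I c g hg hcg, pow_succ, mul_smul]
    refine (tmul_smul_left (c ^ p) _ _).trans ?_
    exact congrArg (c ^ p • ·) (tmul_smul_right c _ _)

theorem idealLift_res {V : X.affineOpens} (h : V.1 ≤ U.1) (g : Γ(X, U.1)) (hg : g ∈ I.ideal U)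
    (hg' : M1.ores h g ∈ I.ideal V) :
    M1.mres (ClSub.idealMod I) h (idealLift I g hg) = idealLift I (M1.ores h g) hg' := by
  refine M2.idealIncl_injective I _ ?_
  rw [incl_idealLift]
  refine (M2.idealIncl_res I h _).trans ?_
  rw [incl_idealLift]

theorem powGen_res {V : X.affineOpens} (h : V.1 ≤ U.1) (p : ℕ) (g : Γ(X, U.1)) (hg : g ∈ I.ideal U)
    (hg' : M1.ores h g ∈ I.ideal V) :
    M1.mres (CohB1.tensorPow (ClSub.idealMod I) p) h (powGen I p g hg) = powGen I p (M1.ores h g) hg' := by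
  refine (KoszTw.map_tprod (ClSub.idealMod I) p (homOfLE h) _).trans ?_
  exact congrArg (KoszTw.tprod _ p V.1) (funext fun _ => idealLift_res I h g hg hg')

theorem isGenAt_powGen {g : Γ(X, U.1)} (hg : IsGen I U g) {z : X} (hz : z ∈ U.1) : ∀ p : ℕ,
    IsGenAt (CohB1.tensorPow (ClSub.idealMod I) p) z
      ((CohB1.tensorPow (ClSub.idealMod I) p).presheaf.germ U.1 z hz (powGen I p g hg.mem))
  | 0 => by
    refine isGenAt_of_sections hz _ fun V hV => ?_
    have h1 : M1.mres (CohB1.tensorPow (ClSub.idealMod I) 0) hV (powGen I 0 g hg.mem) =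
        (show Γ(CohB1.tensorPow (ClSub.idealMod I) 0, V) from (1 : Γ(X, V))) := map_one (M1.ores hV).hom
    rw [h1]
    refine ⟨fun r r' e => ?_, fun b => ⟨b, mul_one (show Γ(X, V) from b)⟩⟩
    exact ((mul_one r).symm.trans e).trans (mul_one r')
  | p + 1 => by
    have ih := isGenAt_powGen hg hz p
    have e := tau_germ (CohB1.tensorPow (ClSub.idealMod I) p)
      ((ClSub.idealMod I).presheaf.germ U.1 z hz (idealLift I g hg.mem)) hz (idealLift I g hg.mem) rfl
      (powGen I p g hg.mem)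
    show IsGenAt (CohB1.tensorMod _ _) z ((CohB1.tensorMod (CohB1.tensorPow (ClSub.idealMod I) p)
      (ClSub.idealMod I)).presheaf.germ U.1 z hz (SecTwist.tmul _ _ U.1 (powGen I p g hg.mem) _))
    rw [← e]
    unfold IsGenAt
    simp only [← map_smul]
    exact (bijective_tau _ (isGenAt_idealLift I hg hz)).comp ih

/-- `L^{⊗ (p+1)} → L^{⊗ p}` -/
noncomputable def powDown (p : ℕ) :
    CohB1.tensorPow (ClSub.idealMod I) (p + 1) ⟶ CohB1.tensorPow (ClSub.idealMod I) p :=
  KoszTw.tensorMap (𝟙 (CohB1.tensorPow (ClSub.idealMod I) p)) (ClSub.idealModι I) ≫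
    (SecTwist.unitorR (CohB1.tensorPow (ClSub.idealMod I) p)).hom

theorem powDown_powGen (p : ℕ) (g : Γ(X, U.1)) (hg : g ∈ I.ideal U) :
    (powDown I p).app U.1 (powGen I (p + 1) g hg) = g • powGen I p g hg := by
  show (SecTwist.unitorR (CohB1.tensorPow (ClSub.idealMod I) p)).hom.app U.1
    ((KoszTw.tensorMap (𝟙 _) (ClSub.idealModι I)).app U.1
      (SecTwist.tmul _ _ U.1 (powGen I p g hg) (idealLift I g hg))) = _
  rw [KoszTw.tensorMap_tmul]
  refine (SecTwist.unitorR_tmul (CohB1.tensorPow (ClSub.idealMod I) p) U.1 _ _).trans ?_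
  show M2.idealIncl I (idealLift I g hg) • _ = _
  rw [incl_idealLift]
  rfl

end Ideal

section Sum

theorem app_sum {M N : X.Modules} {ι : Type*} (s : Finset ι) (f : ι → (M ⟶ N)) (U : X.Opens) (m : Γ(M, U)) :
    (∑ i ∈ s, f i).app U m = ∑ i ∈ s, (f i).app U m := by
  classical
  induction s using Finset.induction_on with
  | empty => simp
  | insert a s ha ih => rw [Finset.sum_insert ha, Finset.sum_insert ha, ← ih]; rfl

theorem sum_π_ι {n : ℕ} (M : Fin n → X.Modules) :
    ∑ i, Sigma.π M i ≫ Sigma.ι M i = 𝟙 (∐ M) := by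
  refine Sigma.hom_ext _ _ fun j => ?_
  rw [Preadditive.comp_sum, Finset.sum_eq_single j]
  · simp
  · intro i _ hij
    simp [Sigma.ι_π_of_ne_assoc _ hij.symm]
  · simp

theorem eq_sum {n : ℕ} (M : Fin n → X.Modules) (U : X.Opens) (e : Γ(∐ M, U)) :
    ∑ i, (Sigma.ι M i).app U ((Sigma.π M i).app U e) = e := by
  have h := congrArg (fun φ : ∐ M ⟶ ∐ M => φ.app U e) (sum_π_ι M)
  rw [app_sum] at h
  exact h

theorem π_ι_app {n : ℕ} (M : Fin n → X.Modules) (U : X.Opens) (i : Fin n) (a : ∀ j, Γ(M j, U)) :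
    (Sigma.π M i).app U (∑ j, (Sigma.ι M j).app U (a j)) = a i := by
  rw [map_sum, Finset.sum_eq_single i]
  · exact congrArg (fun φ : M i ⟶ M i => φ.app U (a i)) (Sigma.ι_π_eq_id M i)
  · intro j _ hji
    refine (congrArg (fun φ : M j ⟶ M i => φ.app U (a j)) (Sigma.ι_π_of_ne M hji)).trans ?_
    rfl
  · simp

end Sum

section Psi

variable {n : ℕ} (IY : Fin n → X.IdealSheafData) (ID : X.IdealSheafData)

/-- the sum of ideal modules -/
noncomputable abbrev ESum (I : Fin n → X.IdealSheafData) : X.Modules := ∐ fun i => ClSub.idealMod (I i)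

/-- its cosection -/
noncomputable abbrev sSum (I : Fin n → X.IdealSheafData) : ESum I ⟶ Coh.structureModule X :=
  Sigma.desc fun i => ClSub.idealModι (I i)

/-- twisted ideals -/
noncomputable abbrev twI : Fin n → X.IdealSheafData := fun i => IY i * ID

/-- coordinates -/
noncomputable def co (I : Fin n → X.IdealSheafData) (U : X.Opens) (i : Fin n) (e : Γ(ESum I, U)) : Γ(X, U) :=
  M2.idealIncl (I i) ((Sigma.π (fun i => ClSub.idealMod (I i)) i).app U e)

theorem co_ext (I : Fin n → X.IdealSheafData) {U : X.Opens} {e e' : Γ(ESum I, U)}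
    (h : ∀ i, co I U i e = co I U i e') : e = e' := by
  rw [← eq_sum (fun i => ClSub.idealMod (I i)) U e, ← eq_sum (fun i => ClSub.idealMod (I i)) U e']
  exact Finset.sum_congr rfl fun i _ => congrArg _ (M2.idealIncl_injective (I i) U (h i))

theorem co_smul (I : Fin n → X.IdealSheafData) (U : X.Opens) (i : Fin n) (c : Γ(X, U)) (e : Γ(ESum I, U)) :
    co I U i (c • e) = c * co I U i e := by
  rw [co, Scheme.Modules.Hom.app_smul, M2.idealIncl_smul]
  rfl

theorem co_add (I : Fin n → X.IdealSheafData) (U : X.Opens) (i : Fin n) (e e' : Γ(ESum I, U)) :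
    co I U i (e + e') = co I U i e + co I U i e' := by
  rw [co, map_add, M2.idealIncl_add]
  rfl

theorem co_res (I : Fin n → X.IdealSheafData) {U V : X.Opens} (h : V ≤ U) (i : Fin n) (e : Γ(ESum I, U)) :
    co I V i (M1.mres _ h e) = M1.ores h (co I U i e) := by
  show M2.idealIncl (I i) ((Sigma.π (fun i => ClSub.idealMod (I i)) i).app V (M1.mres _ h e)) = _
  rw [M1.map_app_eq]
  exact M2.idealIncl_res (I i) h _

theorem co_mem (I : Fin n → X.IdealSheafData) (U : X.affineOpens) (i : Fin n) (e : Γ(ESum I, U.1)) :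
    co I U.1 i e ∈ (I i).ideal U := idealIncl_mem (I i) _

theorem exists_co (I : Fin n → X.IdealSheafData) (U : X.affineOpens) (v : Fin n → Γ(X, U.1))
    (hv : ∀ i, v i ∈ (I i).ideal U) : ∃ e, ∀ i, co I U.1 i e = v i := by
  refine ⟨∑ j, (Sigma.ι (fun i => ClSub.idealMod (I i)) j).app U.1 (idealLift (I j) (v j) (hv j)), fun i => ?_⟩
  rw [co, π_ι_app, incl_idealLift]

theorem secForm_eq_sum (I : Fin n → X.IdealSheafData) (U : X.Opens) (e : Γ(ESum I, U)) :
    KoszSh.secForm (sSum I) U e = ∑ i, co I U i e := by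
  conv_lhs => rw [← eq_sum (fun i => ClSub.idealMod (I i)) U e]
  rw [map_sum]
  refine Finset.sum_congr rfl fun i _ => ?_
  exact congrArg (fun φ : ClSub.idealMod (I i) ⟶ Coh.structureModule X =>
    φ.app U ((Sigma.π (fun i => ClSub.idealMod (I i)) i).app U e))
    (Sigma.ι_desc (fun i => ClSub.idealModι (I i)) i)

variable {IY ID} {U : X.affineOpens} (g : Γ(X, U.1)) (hg : g ∈ ID.ideal U)

include hg in
theorem mul_co_mem (i : Fin n) (e : Γ(ESum IY, U.1)) : g * co IY U.1 i e ∈ (twI IY ID i).ideal U := by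
  rw [mul_comm]
  exact Ideal.mul_mem_mul (co_mem IY U i e) hg

/-- multiplication by `g ∈ I_D` -/
noncomputable def psiMul : Γ(ESum IY, U.1) →ₗ[Γ(X, U.1)] Γ(ESum (twI IY ID), U.1) where
  toFun e := (exists_co (twI IY ID) U _ (fun i => mul_co_mem g hg i e)).choose
  map_add' e e' := co_ext _ fun i => by
    rw [co_add, (exists_co (twI IY ID) U _ (fun j => mul_co_mem g hg j (e + e'))).choose_spec,
      (exists_co (twI IY ID) U _ (fun j => mul_co_mem g hg j e)).choose_spec,
      (exists_co (twI IY ID) U _ (fun j => mul_co_mem g hg j e')).choose_spec, co_add, mul_add]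
  map_smul' c e := co_ext _ fun i => by
    rw [RingHom.id_apply, co_smul, (exists_co (twI IY ID) U _ (fun j => mul_co_mem g hg j (c • e))).choose_spec,
      (exists_co (twI IY ID) U _ (fun j => mul_co_mem g hg j e)).choose_spec, co_smul]
    ring

theorem co_psiMul (i : Fin n) (e : Γ(ESum IY, U.1)) :
    co (twI IY ID) U.1 i (psiMul g hg e) = g * co IY U.1 i e :=
  (exists_co (twI IY ID) U _ (fun i => mul_co_mem g hg i e)).choose_spec i

theorem secForm_psiMul :
    (KoszSh.secForm (sSum (twI IY ID)) U.1).comp (psiMul (IY := IY) g hg) = g • KoszSh.secForm (sSum IY) U.1 := by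
  refine LinearMap.ext fun e => ?_
  rw [LinearMap.comp_apply, secForm_eq_sum, LinearMap.smul_apply, secForm_eq_sum, smul_eq_mul, Finset.mul_sum]
  exact Finset.sum_congr rfl fun i _ => co_psiMul g hg i e

theorem bijective_psiMul (h : IsGen ID U g) : Function.Bijective (psiMul (IY := IY) g hg) := by
  refine ⟨fun e e' he => co_ext IY fun i => ?_, fun e' => ?_⟩
  · have := congrArg (co (twI IY ID) U.1 i) he
    rw [co_psiMul, co_psiMul] at this
    exact (mul_cancel_left_mem_nonZeroDivisors h.1).mp this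
  · have hm : ∀ i, ∃ v ∈ (IY i).ideal U, v * g = co (twI IY ID) U.1 i e' := fun i => by
      have := co_mem (twI IY ID) U i e'
      change _ ∈ (IY i).ideal U * ID.ideal U at this
      rw [h.2] at this
      exact Ideal.mem_mul_span_singleton.1 this
    choose v hv hve using hm
    obtain ⟨e, he⟩ := exists_co IY U v hv
    exact ⟨e, co_ext _ fun i => by rw [co_psiMul, he, mul_comm, hve]⟩

theorem psiMul_smul (c : Γ(X, U.1)) (hcg : c * g ∈ ID.ideal U) :
    psiMul (IY := IY) (c * g) hcg = c • psiMul g hg :=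
  LinearMap.ext fun e => co_ext _ fun i => by
    rw [LinearMap.smul_apply, co_smul, co_psiMul, co_psiMul, mul_assoc]

theorem psiMul_res {V : X.affineOpens} (h : V.1 ≤ U.1) (hg' : M1.ores h g ∈ ID.ideal V) (e : Γ(ESum IY, U.1)) :
    M1.mres _ h (psiMul (IY := IY) g hg e) = psiMul (M1.ores h g) hg' (M1.mres _ h e) :=
  co_ext _ fun i => by rw [co_res, co_psiMul, co_psiMul, co_res, map_mul]

variable (C : KoszSh.Cx (ESum IY) (sSum IY)) (C' : KoszSh.Cx (ESum (twI IY ID)) (sSum (twI IY ID)))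

/-- the twist on sections of exterior powers -/
noncomputable def Phi (p : ℕ) : Γ(C.K.X p, U.1) →ₗ[Γ(X, U.1)] Γ(C'.K.X p, U.1) :=
  (C'.loc p U).symm.toLinearMap.comp ((exteriorPower.map p (psiMul g hg)).comp (C.loc p U).toLinearMap)

theorem Phi_loc (p : ℕ) (x : ↥(⋀[Γ(X, U.1)]^p Γ(ESum IY, U.1))) :
    Phi g hg C C' p ((C.loc p U).symm x) = (C'.loc p U).symm (exteriorPower.map p (psiMul g hg) x) := by
  simp [Phi]

theorem bijective_Phi (h : IsGen ID U g) (p : ℕ) : Function.Bijective (Phi g hg C C' p) := by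
  let e := LinearEquiv.ofBijective _ (bijective_psiMul (IY := IY) g hg h)
  have hb : Function.Bijective (exteriorPower.map p e.toLinearMap) := by
    refine Function.bijective_iff_has_inverse.2 ⟨exteriorPower.map p e.symm.toLinearMap, fun x => ?_, fun x => ?_⟩
    · rw [← LinearMap.comp_apply, ← exteriorPower.map_comp]
      simp
    · rw [← LinearMap.comp_apply, ← exteriorPower.map_comp]
      simp
  exact (C'.loc p U).symm.bijective.comp (hb.comp (C.loc p U).bijective)

theorem Phi_smul (c : Γ(X, U.1)) (hcg : c * g ∈ ID.ideal U) (p : ℕ) (m : Γ(C.K.X p, U.1)) :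
    Phi (c * g) hcg C C' p m = c ^ p • Phi g hg C C' p m := by
  have h : exteriorPower.map p (psiMul (IY := IY) (c * g) hcg) =
      c ^ p • exteriorPower.map p (psiMul (IY := IY) g hg) := by
    rw [psiMul_smul g hg c hcg, Submodule.linearMap_eq_iff_of_span_eq_top _ _ (exteriorPower.ιMulti_span _ p _)]
    rintro ⟨_, e, rfl⟩
    rw [LinearMap.smul_apply, exteriorPower.map_apply_ιMulti, exteriorPower.map_apply_ιMulti]
    refine ((exteriorPower.ιMulti Γ(X, U.1) p).toMultilinearMap.map_smul_univ (fun _ => c) _).trans ?_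
    rw [Finset.prod_const, Finset.card_univ, Fintype.card_fin]
    rfl
  simp [Phi, h]

theorem Phi_res {V : X.affineOpens} (h : V.1 ≤ U.1) (hg' : M1.ores h g ∈ ID.ideal V) (p : ℕ)
    (m : Γ(C.K.X p, U.1)) :
    M1.mres (C'.K.X p) h (Phi g hg C C' p m) = Phi (M1.ores h g) hg' C C' p (M1.mres (C.K.X p) h m) := by
  obtain ⟨x, rfl⟩ := (C.loc p U).symm.surjective m
  refine extPow_ext (((M1.mres (C'.K.X p) h).hom.comp (Phi g hg C C' p).toAddMonoidHom).comp
      (C.loc p U).symm.toLinearMap.toAddMonoidHom)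
    (((Phi (M1.ores h g) hg' C C' p).toAddMonoidHom.comp (M1.mres (C.K.X p) h).hom).comp
      (C.loc p U).symm.toLinearMap.toAddMonoidHom) (fun c e => ?_) x
  show M1.mres (C'.K.X p) h (Phi g hg C C' p ((C.loc p U).symm (c • _))) =
    Phi (M1.ores h g) hg' C C' p (M1.mres (C.K.X p) h ((C.loc p U).symm (c • _)))
  rw [map_smul, map_smul, M1.mres_smul, M1.mres_smul, map_smul, Phi_loc, exteriorPower.map_apply_ιMulti]
  congr 1
  refine (C'.loc_res p U V h _).trans ?_
  refine Eq.trans ?_ (congrArg (Phi (M1.ores h g) hg' C C' p) (C.loc_res p U V h e).symm)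
  rw [Phi_loc, exteriorPower.map_apply_ιMulti]
  congr 2
  funext j
  exact psiMul_res g hg h hg' (e j)

theorem d_Phi (p : ℕ) (m : Γ(C.K.X (p + 1), U.1)) :
    (C'.K.d (p + 1) p).app U.1 (Phi g hg C C' (p + 1) m) =
      g • Phi g hg C C' p ((C.K.d (p + 1) p).app U.1 m) := by
  obtain ⟨x, rfl⟩ := (C.loc (p + 1) U).symm.surjective m
  rw [Phi_loc, d_app, d_app, Phi_loc, dK_map _ _ _ (secForm_psiMul (IY := IY) g hg)]
  have : dK (g • KoszSh.secForm (sSum IY) U.1) p x = g • dK (KoszSh.secForm (sSum IY) U.1) p x :=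
    Subtype.ext (by
      rw [dK_coe, Submodule.coe_smul, dK_coe]
      exact LinearMap.congr_fun (map_smul (CliffordAlgebra.contractLeft
        (Q := (0 : QuadraticForm Γ(X, U.1) Γ(ESum IY, U.1)))) g _) _)
  rw [this, map_smul, map_smul]

end Psi

section Omega

variable {n : ℕ} {IY : Fin n → X.IdealSheafData} {ID : X.IdealSheafData}
  (C : KoszSh.Cx (ESum IY) (sSum IY)) (C' : KoszSh.Cx (ESum (twI IY ID)) (sSum (twI IY ID)))

/-- `Ω : K'_p → K_p ⊗ I_D^p` -/
theorem exists_omega (hP : IsAffBasis (GoodAff IY ID)) (p : ℕ) :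
    ∃ Ω : C'.K.X p ⟶ CohB1.tensorMod (C.K.X p) (CohB1.tensorPow (ClSub.idealMod ID) p),
      ∀ (U : X.affineOpens), GoodAff IY ID U → ∀ (g : Γ(X, U.1)) (hg : IsGen ID U g) (m : Γ(C.K.X p, U.1)),
        Ω.app U.1 (Phi g hg.mem C C' p m) = SecTwist.tmul _ _ U.1 m (powGen ID p g hg.mem) := by
  let e : ∀ (U : X.affineOpens), GoodAff IY ID U → (Γ(C.K.X p, U.1) ≃ₗ[Γ(X, U.1)] Γ(C'.K.X p, U.1)) :=
    fun U hU => LinearEquiv.ofBijective _ (bijective_Phi _ hU.1.choose_spec.mem C C' hU.1.choose_spec p)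
  let f : ∀ U : X.affineOpens, GoodAff IY ID U →
      (Γ(C'.K.X p, U.1) →+ Γ(CohB1.tensorMod (C.K.X p) (CohB1.tensorPow (ClSub.idealMod ID) p), U.1)) :=
    fun U hU => AddMonoidHom.mk' (fun y => SecTwist.tmul _ _ U.1 ((e U hU).symm y)
      (powGen ID p hU.1.choose hU.1.choose_spec.mem)) fun y y' => by
        rw [map_add]; exact tmul_add_left _ _ _
  have key : ∀ U hU (g : Γ(X, U.1)) (hg : IsGen ID U g) (m : Γ(C.K.X p, U.1)),
      f U hU (Phi g hg.mem C C' p m) = SecTwist.tmul _ _ U.1 m (powGen ID p g hg.mem) := by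
    intro U hU g hg m
    set g₀ := hU.1.choose
    have hg₀ : IsGen ID U g₀ := hU.1.choose_spec
    obtain ⟨c, rfl⟩ := Ideal.mem_span_singleton'.1 (hg₀.2 ▸ hg.mem : g ∈ Ideal.span {g₀})
    show SecTwist.tmul _ _ U.1 ((e U hU).symm (Phi (c * g₀) hg.mem C C' p m)) (powGen ID p g₀ hg₀.mem) = _
    rw [Phi_smul g₀ hg₀.mem C C' c hg.mem, powGen_smul ID p c g₀ hg₀.mem hg.mem, ← map_smul,
      show (e U hU).symm (Phi g₀ hg₀.mem C C' p (c ^ p • m)) = c ^ p • m from (e U hU).symm_apply_apply _]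
    exact (tmul_smul_left _ _ _).trans (tmul_smul_right _ _ _).symm
  obtain ⟨Ω, hΩ⟩ := exists_glue hP f (fun U hU r y => by
      show SecTwist.tmul _ _ U.1 ((e U hU).symm (r • y)) _ = _
      rw [map_smul]
      exact tmul_smul_left r _ _)
    (fun V hV W hW h y => by
      obtain ⟨m, rfl⟩ := (e V hV).surjective y
      have hg := hV.1.choose_spec
      show M1.mres _ h (f V hV (Phi _ hg.mem C C' p m)) = f W hW (M1.mres _ h (Phi _ hg.mem C C' p m))
      rw [key V hV _ hg, Phi_res _ hg.mem C C' h (hg.res h).mem p m, key W hW _ (hg.res h), mres_tmul,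
        powGen_res ID h p _ hg.mem (hg.res h).mem])
  exact ⟨Ω, fun U hU g hg m => (hΩ U hU _).trans (key U hU g hg m)⟩

end Omega

end Groth.Agent.KoszShH13
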