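import Groth.Agent.Lib.KoszShH13.Local
import Groth.Agent.Lib.KoszShH13.Twist
import Groth.Agent.Lib.Goren.CMHeight27
import Groth.Agent.Lib.RegKR4.Basic
import Groth.Agent.Lib.CenterCoh13.Basic
import Groth.Agent.Lib.TensorMod.Invertible

/-! Local complete intersections in Cohen–Macaulay schemes. -/

set_option autoImplicit false
set_option backward.isDefEq.respectTransparency false
set_option backward.isDefEq.respectTransparency.types false

universe u

open CategoryTheory Limits AlgebraicGeometry Opposite TopologicalSpace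

namespace Groth.Agent.KoszShH13

theorem isWeaklyRegular_of_height {R : Type u} [CommRing R] [LocCoh.IsCohenMacaulayLocalRing R] (xs : List R)
    (hm : ∀ x ∈ xs, x ∈ IsLocalRing.maximalIdeal R) (h : (xs.length : ℕ∞) ≤ (Ideal.ofList xs).height) :
    RingTheory.Sequence.IsWeaklyRegular R xs := by
  refine DepthLib.isWeaklyRegular_of_length_le_idealDepth xs hm ?_
  rwa [GorenLib.idealDepth_eq_height _ (ne_top_of_le_ne_top (Ideal.IsMaximal.ne_top inferInstance)
    (Ideal.span_le.2 hm : Ideal.ofList xs ≤ IsLocalRing.maximalIdeal R))]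

theorem isWeaklyRegular_localization_congr {A : Type u} [CommRing A] (M : Submonoid A) (S T : Type u) [CommRing S]
    [CommRing T] [Algebra A S] [Algebra A T] [IsLocalization M S] [IsLocalization M T] (rs : List A)
    (h : RingTheory.Sequence.IsWeaklyRegular S (rs.map (algebraMap A S))) :
    RingTheory.Sequence.IsWeaklyRegular T (rs.map (algebraMap A T)) := by
  rw [RingTheory.Sequence.isWeaklyRegular_map_algebraMap_iff] at h ⊢
  exact ((IsLocalization.algEquiv M S T).toLinearEquiv.isWeaklyRegular_congr rs).1 h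

variable {X : Scheme.{u}}

theorem exists_regular_generators {Y : Scheme.{u}} [IsLocallyNoetherian X]
    (hCM : ∀ x : X, LocCoh.IsCohenMacaulayLocalRing (X.presheaf.stalk x))
    (i : Y ⟶ X) [IsClosedImmersion i] (c : ℕ)
    (hgen : ∀ y : Y, ∃ U : X.affineOpens, i.base y ∈ U.1 ∧ ∃ g : Fin c → Γ(X, U.1), i.ker.ideal U = Ideal.span (Set.range g))
    (hht : ∀ y : Y, (c : ℕ∞) ≤ (RingHom.ker (i.stalkMap y).hom).height) (y : Y) :
    ∃ U : X.affineOpens, i.base y ∈ U.1 ∧ ∃ f : Fin c → Γ(X, U.1),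
      i.ker.ideal U = Ideal.span (Set.range f) ∧ RingTheory.Sequence.IsWeaklyRegular Γ(X, U.1) (List.ofFn f) := by
  obtain ⟨U, hyU, g, hg⟩ := hgen y
  haveI : IsNoetherianRing Γ(X, U.1) := IsLocallyNoetherian.component_noetherian U
  haveI := hCM (i y)
  let := TopCat.Presheaf.algebra_section_stalk X.presheaf (⟨i y, hyU⟩ : U.1)
  have := U.2.isLocalization_stalk ⟨i y, hyU⟩
  let R := X.presheaf.stalk (i y)
  let p := (U.2.primeIdealOf ⟨i y, hyU⟩).asIdeal
  have hI : (Ideal.ofList ((List.ofFn g).map (algebraMap Γ(X, U.1) R))) = (i.ker.ideal U).map (algebraMap Γ(X, U.1) R) := by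
    rw [← Ideal.map_ofList, hg]
    congr 1
    rw [Ideal.ofList]
    congr 1
    ext a
    simp [List.mem_ofFn]
  have hle : RingHom.ker (i.stalkMap y).hom ≤ (i.ker.ideal U).map (algebraMap Γ(X, U.1) R) := fun r hr =>
    CenterCoh13.ker_stalkMap_le i y _ (fun U' hxU' a ha => by
      obtain ⟨V, -, hyV, hV⟩ := isAffBasis_top (U'.1 ⊓ U.1) (i y) ⟨hxU', hyU⟩
      have h1 := Ideal.mem_map_of_mem (X.presheaf.map (homOfLE (hV.trans inf_le_left)).op).hom ha
      rw [i.ker.map_ideal' (U := V) (V := U'), ← i.ker.map_ideal' (U := V) (V := U) (homOfLE (hV.trans inf_le_right)).op] at h1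
      have h2 := Ideal.mem_map_of_mem (X.presheaf.germ V.1 (i y) hyV).hom h1
      rw [Ideal.map_map] at h2
      rw [← TopCat.Presheaf.germ_res_apply X.presheaf (homOfLE (hV.trans inf_le_left)) (i y) hyV a]
      refine Eq.mp ?_ h2
      congr 2
      exact RingHom.ext fun b => TopCat.Presheaf.germ_res_apply X.presheaf _ (i y) hyV b) r hr
  have hreg : RingTheory.Sequence.IsWeaklyRegular R ((List.ofFn g).map (algebraMap Γ(X, U.1) R)) := by
    refine isWeaklyRegular_of_height _ (fun r hr => ?_) ?_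
    · simp only [List.mem_map, List.mem_ofFn] at hr
      obtain ⟨_, ⟨k, rfl⟩, rfl⟩ := hr
      intro hu
      have hk : g k ∈ i.ker.ideal U := hg ▸ Ideal.subset_span ⟨k, rfl⟩
      rw [Scheme.Hom.ker_apply, RingHom.mem_ker] at hk
      have h1 := hu.map (i.stalkMap y).hom
      rw [show (i.stalkMap y).hom (algebraMap Γ(X, U.1) R (g k)) = i.stalkMap y (X.presheaf.germ U.1 (i y) hyU (g k)) from rfl,
        Scheme.Hom.germ_stalkMap_apply, hk, map_zero, isUnit_zero_iff] at h1
      exact zero_ne_one h1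
    · rw [List.length_map, List.length_ofFn]
      refine le_trans (hht y) ?_
      rw [hI]
      exact Ideal.height_mono hle
  obtain ⟨h, hhp, hh⟩ := RegKR4.exists_isWeaklyRegular_away p (List.ofFn g)
    (isWeaklyRegular_localization_congr p.primeCompl R (Localization.AtPrime p) _ hreg)
  have hyh : i y ∈ X.basicOpen h := (X.mem_basicOpen h (i y) hyU).2 ((M1.isUnit_germ_iff U.2 hyU h).2 hhp)
  refine ⟨⟨X.basicOpen h, U.2.basicOpen h⟩, hyh, fun k => M1.ores (X.basicOpen_le h) (g k), ?_, ?_⟩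
  · rw [← i.ker.map_ideal (U := ⟨X.basicOpen h, U.2.basicOpen h⟩) (X.basicOpen_le h), hg, Ideal.map_span,
      ← Set.range_comp]
    rfl
  · letI : Algebra Γ(X, U.1) Γ(X, X.basicOpen h) := (M1.ores (X.basicOpen_le h)).hom.toAlgebra
    haveI : IsLocalization.Away h Γ(X, X.basicOpen h) := U.2.isLocalization_basicOpen h
    have := isWeaklyRegular_localization_congr (Submonoid.powers h) (Localization.Away h) Γ(X, X.basicOpen h) _
      (hh h dvd_rfl)
    rw [List.map_ofFn] at this
    exact this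

theorem exists_basis_freeMod (S : Scheme.{u}) (c : ℕ) :
    ∃ b : Module.Basis (Fin c) Γ(S, ⊤) Γ(FlatMod.freeMod S c, ⊤),
      ∀ k, b k = (Sigma.ι (fun _ : Fin c => Coh.structureModule S) k).app ⊤
        (show Γ(Coh.structureModule S, ⊤) from (1 : Γ(S, ⊤))) := by
  let M : Fin c → S.Modules := fun _ => Coh.structureModule S
  let v : (Fin c → Γ(S, ⊤)) →ₗ[Γ(S, ⊤)] Γ(FlatMod.freeMod S c, ⊤) :=
    { toFun := fun a => ∑ j : Fin c, (Sigma.ι M j).app ⊤ (show Γ(M j, ⊤) from a j)
      map_add' := fun (a a' : Fin c → Γ(S, ⊤)) => by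
        rw [← Finset.sum_add_distrib]
        exact Finset.sum_congr rfl fun j _ => map_add _ _ _
      map_smul' := fun r (a : Fin c → Γ(S, ⊤)) => by
        rw [RingHom.id_apply, Finset.smul_sum]
        exact Finset.sum_congr rfl fun j _ => (Sigma.ι M j).app_smul r _ }
  have hπ : ∀ a i, (Sigma.π M i).app ⊤ (v a) = (show Γ(M i, ⊤) from a i) := fun a i =>
    π_ι_app M ⊤ i fun j => (show Γ(M j, ⊤) from a j)
  refine ⟨(Pi.basisFun Γ(S, ⊤) (Fin c)).map (LinearEquiv.ofBijective v
    ⟨fun a a' e => funext fun i => ?_, fun e => ⟨fun i => (Sigma.π M i).app ⊤ e, ?_⟩⟩), fun k => ?_⟩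
  · rw [show a i = _ from (hπ a i).symm, e]
    exact hπ a' i
  · exact eq_sum M ⊤ e
  · rw [Module.Basis.map_apply]
    show ∑ j : Fin c, (Sigma.ι M j).app ⊤ (show Γ(M j, ⊤) from Pi.basisFun Γ(S, ⊤) (Fin c) k j) = _
    rw [Finset.sum_eq_single k]
    · refine congrArg _ ?_
      rw [Pi.basisFun_apply, Pi.single_eq_same]
    · intro j _ hj
      rw [Pi.basisFun_apply, Pi.single_eq_of_ne hj]
      exact map_zero _
    · simp

theorem isZero_homology_of_top_regular (U : X.affineOpens) {c : ℕ} (f : Fin c → Γ(X, U.1))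
    (hreg : RingTheory.Sequence.IsWeaklyRegular Γ(X, U.1) (List.ofFn f))
    (s : FlatMod.freeMod (↑U.1) c ⟶ Coh.structureModule (↑U.1))
    (hs : ∀ k : Fin c, KoszSh.secForm s ⊤ ((Limits.Sigma.ι (fun _ : Fin c => Coh.structureModule (↑U.1)) k).app ⊤
      (OmegaSh.strSect (↑U.1) ⊤ 1)) = U.1.topIso.inv (f k))
    (C : KoszSh.Cx (FlatMod.freeMod (↑U.1) c) s) (q : ℕ) (hq : 1 ≤ q) : IsZero (C.K.homology q) := by
  haveI : IsAffine U.1 := U.2
  have hT : HasRegBasis s c ⟨⊤, isAffineOpen_top _⟩ := by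
    obtain ⟨b, hb⟩ := exists_basis_freeMod (↑U.1) c
    refine ⟨b, ?_⟩
    have h1 : (fun k => KoszSh.secForm s ⊤ (b k)) = fun k => U.1.topIso.inv (f k) := funext fun k => by
      rw [hb]; exact hs k
    rw [show (List.ofFn fun k => KoszSh.secForm s ⊤ (b k)) = List.ofFn fun k => U.1.topIso.inv (f k) from
      congrArg List.ofFn h1]
    let e := U.1.topIso.symm.commRingCatIsoToRingEquiv
    letI : Algebra Γ(X, U.1) Γ((U.1 : Scheme.{u}), ⊤) := e.toRingHom.toAlgebra
    let ea : Γ(X, U.1) ≃ₗ[Γ(X, U.1)] Γ((U.1 : Scheme.{u}), ⊤) :=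
      (AlgEquiv.ofRingEquiv (f := e) fun _ => rfl).toLinearEquiv
    have h2 := (ea.isWeaklyRegular_congr _).1 hreg
    rw [← RingTheory.Sequence.isWeaklyRegular_map_algebraMap_iff Γ((U.1 : Scheme.{u}), ⊤), List.map_ofFn] at h2
    exact h2
  exact isZero_homology_of_basis C
    (isAffBasis_hasRegBasis s (M2.isQCoh_of_isFinLocFree (M2.isFinLocFree_of_ofRank (M2.isFinLocFreeOfRank_freeMod _ c)))
      fun x => ⟨⟨⊤, isAffineOpen_top _⟩, trivial, hT⟩)
    (fun V hV => acyc_of_hasRegBasis s hV) q hq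

end Groth.Agent.KoszShH13
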