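import Groth.Agent.Lib.CI2.TateCx
import Groth.Agent.Lib.CotT3.Koszul
import Groth.Prelude.Def_KoszulSh

/-! The Koszul complex on exterior powers: differential, naturality, acyclicity. -/

set_option autoImplicit false

universe u

open exteriorPower

namespace Groth.Agent.KoszShH13

section General

variable {R : Type*} [CommRing R] {M N : Type*} [AddCommGroup M] [Module R M] [AddCommGroup N] [Module R N]

/-- contraction in the exterior algebra -/
noncomputable abbrev ct (φ : M →ₗ[R] R) : ExteriorAlgebra R M →ₗ[R] ExteriorAlgebra R M :=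
  CliffordAlgebra.contractLeft (Q := (0 : QuadraticForm R M)) φ

theorem ct_ι_mul (φ : M →ₗ[R] R) (m : M) (x : ExteriorAlgebra R M) :
    ct φ (ExteriorAlgebra.ι R m * x) = φ m • x - ExteriorAlgebra.ι R m * ct φ x :=
  CliffordAlgebra.contractLeft_ι_mul (Q := (0 : QuadraticForm R M)) φ m x

theorem ct_algebraMap (φ : M →ₗ[R] R) (c : R) : ct φ (algebraMap R (ExteriorAlgebra R M) c) = 0 :=
  CliffordAlgebra.contractLeft_algebraMap (Q := (0 : QuadraticForm R M)) φ c

theorem ct_map (g : M →ₗ[R] N) (ψ : N →ₗ[R] R) (x : ExteriorAlgebra R M) :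
    ct ψ (ExteriorAlgebra.map g x) = ExteriorAlgebra.map g (ct (ψ.comp g) x) := by
  induction x using CliffordAlgebra.left_induction with
  | algebraMap c => rw [AlgHom.commutes, ct_algebraMap, ct_algebraMap, map_zero]
  | add x y hx hy => rw [map_add, map_add, map_add, map_add, hx, hy]
  | ι_mul x m hx =>
    change ct ψ (ExteriorAlgebra.map g (ExteriorAlgebra.ι R m * x)) =
      ExteriorAlgebra.map g (ct (ψ.comp g) (ExteriorAlgebra.ι R m * x))
    rw [map_mul, ExteriorAlgebra.map_apply_ι, ct_ι_mul, ct_ι_mul, map_sub, map_smul, map_mul,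
      ExteriorAlgebra.map_apply_ι, hx]
    rfl

theorem dGen_coe (φ : M →ₗ[R] R) : ∀ (p : ℕ) (e : Fin (p + 1) → M),
    (KoszSh.dGen φ p e : ExteriorAlgebra R M) = ct φ (ExteriorAlgebra.ιMulti R (p + 1) e) := by
  intro p
  induction p with
  | zero =>
    intro e
    rw [ExteriorAlgebra.ιMulti_succ_apply, ct_ι_mul, ExteriorAlgebra.ιMulti_apply]
    simp only [List.ofFn_zero, List.prod_nil]
    rw [show (1 : ExteriorAlgebra R M) = algebraMap R _ 1 from (map_one _).symm, ct_algebraMap, mul_zero, sub_zero]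
    simp [KoszSh.dGen, ExteriorAlgebra.ιMulti_apply]
  | succ p ih =>
    intro e
    rw [ExteriorAlgebra.ιMulti_succ_apply, ct_ι_mul, ← ih, KoszSh.dGen, Fin.sum_univ_succ, Submodule.coe_add,
      Submodule.coe_smul]
    simp only [Fin.val_zero, pow_zero, one_mul, exteriorPower.ιMulti_apply_coe, Fin.succAbove_zero]
    rw [sub_eq_add_neg]
    congr 1
    rw [KoszSh.dGen, AddSubmonoidClass.coe_finsetSum, AddSubmonoidClass.coe_finsetSum, Finset.mul_sum, ← Finset.sum_neg_distrib]
    refine Finset.sum_congr rfl fun i _ => ?_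
    rw [Submodule.coe_smul, Submodule.coe_smul, mul_smul_comm, exteriorPower.ιMulti_apply_coe,
      exteriorPower.ιMulti_apply_coe, ExteriorAlgebra.ιMulti_succ_apply]
    simp [Matrix.vecTail, Function.comp_def, pow_succ, Fin.succ_succAbove_succ, neg_smul]

end General

section Diff

variable {R : Type u} [CommRing R] {M N : Type u} [AddCommGroup M] [Module R M] [AddCommGroup N] [Module R N]

/-- the Koszul differential -/
noncomputable def dK (φ : M →ₗ[R] R) (p : ℕ) : ⋀[R]^(p + 1) M →ₗ[R] ⋀[R]^p M :=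
  ((ct φ).comp (⋀[R]^(p + 1) M).subtype).codRestrict (⋀[R]^p M) fun x => CI2.contract_mem φ p x.2

theorem dK_coe (φ : M →ₗ[R] R) (p : ℕ) (x : ⋀[R]^(p + 1) M) :
    (dK φ p x : ExteriorAlgebra R M) = ct φ x := rfl

theorem dK_ιMulti (φ : M →ₗ[R] R) (p : ℕ) (e : Fin (p + 1) → M) :
    dK φ p (ιMulti R (p + 1) e) = KoszSh.dGen φ p e :=
  Subtype.ext (dGen_coe φ p e).symm

theorem dK_dK (φ : M →ₗ[R] R) (p : ℕ) (x : ⋀[R]^(p + 2) M) : dK φ p (dK φ (p + 1) x) = 0 :=
  Subtype.ext (CliffordAlgebra.contractLeft_contractLeft (Q := (0 : QuadraticForm R M)) φ _)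

theorem map_coe (g : M →ₗ[R] N) (p : ℕ) (x : ⋀[R]^p M) :
    (exteriorPower.map p g x : ExteriorAlgebra R N) = ExteriorAlgebra.map g x := by
  obtain ⟨x, hx⟩ := x
  have h : (ExteriorAlgebra.map g).toLinearMap.comp (⋀[R]^p M).subtype =
      (⋀[R]^p N).subtype.comp (exteriorPower.map p g) := by
    rw [Submodule.linearMap_eq_iff_of_span_eq_top _ _ (exteriorPower.ιMulti_span R p M)]
    rintro ⟨_, e, rfl⟩
    simp [exteriorPower.map_apply_ιMulti, exteriorPower.ιMulti_apply_coe]
  exact (LinearMap.congr_fun h ⟨x, hx⟩).symm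

theorem dK_map (g : M →ₗ[R] N) (φ : M →ₗ[R] R) (ψ : N →ₗ[R] R) (h : ψ.comp g = φ) (p : ℕ)
    (x : ⋀[R]^(p + 1) M) : dK ψ p (exteriorPower.map (p + 1) g x) = exteriorPower.map p g (dK φ p x) := by
  subst h
  refine Subtype.ext ?_
  rw [dK_coe, map_coe, map_coe, dK_coe, ct_map]

/-- vanishing of Koszul homology in positive degree -/
def Acyc (φ : M →ₗ[R] R) : Prop :=
  ∀ (q : ℕ) (x : ⋀[R]^(q + 1) M), dK φ q x = 0 → ∃ y, dK φ (q + 1) y = x

theorem Acyc.equiv {φ : M →ₗ[R] R} (h : Acyc φ) (g : M ≃ₗ[R] N) (ψ : N →ₗ[R] R)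
    (hψ : ψ.comp g.toLinearMap = φ) : Acyc ψ := by
  intro q x hx
  have hψ' : φ.comp g.symm.toLinearMap = ψ := by
    subst hψ
    ext m
    simp
  obtain ⟨y, hy⟩ := h q (exteriorPower.map (q + 1) g.symm.toLinearMap x) (by
    rw [dK_map _ _ _ hψ', hx, map_zero])
  refine ⟨exteriorPower.map (q + 2) g.toLinearMap y, ?_⟩
  rw [dK_map _ _ _ hψ, hy, ← LinearMap.comp_apply, ← exteriorPower.map_comp]
  simp

theorem acyc_subsingleton [Subsingleton M] (φ : M →ₗ[R] R) : Acyc φ := fun q x _ => by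
  refine ⟨0, ?_⟩
  rw [map_zero]
  refine Subtype.ext ?_
  have hx := x.2
  change _ ∈ LinearMap.range (ExteriorAlgebra.ι R (M := M)) ^ (q + 1) at hx
  rw [show LinearMap.range (ExteriorAlgebra.ι R (M := M)) = ⊥ from
    LinearMap.range_eq_bot.2 (LinearMap.ext fun m => by rw [Subsingleton.elim m 0, map_zero, map_zero]),
    pow_succ, Submodule.mul_bot, Submodule.mem_bot] at hx
  exact hx.symm

variable (R) in
/-- the last basis vector, in the exterior algebra -/
noncomputable abbrev eLast (M : Type u) [AddCommGroup M] [Module R M] : ExteriorAlgebra R (M × R) :=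
  ExteriorAlgebra.ι R ((0 : M), (1 : R))

theorem decompose (q : ℕ) : ∀ x ∈ ⋀[R]^(q + 1) (M × R), ∃ a ∈ ⋀[R]^(q + 1) M, ∃ b ∈ ⋀[R]^q M,
    x = ExteriorAlgebra.map (LinearMap.inl R M R) a + eLast R M * ExteriorAlgebra.map (LinearMap.inl R M R) b := by
  induction q with
  | zero =>
    intro x hx
    change _ ∈ LinearMap.range (ExteriorAlgebra.ι R (M := M × R)) ^ (0 + 1) at hx
    rw [zero_add, pow_one] at hx
    obtain ⟨⟨m, c⟩, rfl⟩ := hx
    refine ⟨ExteriorAlgebra.ι R m, ?_, algebraMap R _ c, ?_, ?_⟩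
    · change _ ∈ LinearMap.range (ExteriorAlgebra.ι R (M := M)) ^ (0 + 1)
      rw [zero_add, pow_one]
      exact LinearMap.mem_range_self _ m
    · change _ ∈ LinearMap.range (ExteriorAlgebra.ι R (M := M)) ^ 0
      rw [pow_zero]
      exact Submodule.mem_one.2 ⟨c, rfl⟩
    · rw [ExteriorAlgebra.map_apply_ι, AlgHom.commutes, ← Algebra.commutes, ← Algebra.smul_def, ← map_smul,
        ← map_add]
      simp
  | succ q ih =>
    intro x hx
    change _ ∈ LinearMap.range (ExteriorAlgebra.ι R (M := M × R)) ^ (q + 1 + 1) at hx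
    rw [pow_succ'] at hx
    refine Submodule.mul_induction_on hx ?_ ?_
    · rintro _ ⟨⟨m, c⟩, rfl⟩ z hz
      obtain ⟨a, ha, b, hb, rfl⟩ := ih z hz
      refine ⟨ExteriorAlgebra.ι R m * a, CI2.ι_mul_mem m ha, c • a - ExteriorAlgebra.ι R m * b,
        sub_mem (Submodule.smul_mem _ _ ha) (CI2.ι_mul_mem m hb), ?_⟩
      have hmc : ((m, c) : M × R) = LinearMap.inl R M R m + c • ((0 : M), (1 : R)) := by simp
      rw [hmc, map_add, map_smul, map_mul, map_sub, map_smul, map_mul, ExteriorAlgebra.map_apply_ι]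
      set i : ExteriorAlgebra R (M × R) := ExteriorAlgebra.ι R (LinearMap.inl R M R m)
      set A := ExteriorAlgebra.map (LinearMap.inl R M R) a
      set B := ExteriorAlgebra.map (LinearMap.inl R M R) b
      have hanti : i * eLast R M = -(eLast R M * i) :=
        eq_neg_of_add_eq_zero_left (ExteriorAlgebra.ι_add_mul_swap _ _)
      have hsq : eLast R M * eLast R M = 0 := ExteriorAlgebra.ι_sq_zero _
      rw [add_mul, mul_add, mul_add, mul_sub, ← mul_assoc i, hanti, smul_mul_assoc, smul_mul_assoc,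
        ← mul_assoc (eLast R M) (eLast R M), hsq, zero_mul, smul_zero, add_zero, mul_smul_comm, neg_mul, mul_assoc]
      abel
    · rintro y z ⟨a, ha, b, hb, rfl⟩ ⟨a', ha', b', hb', rfl⟩
      refine ⟨a + a', add_mem ha ha', b + b', add_mem hb hb', ?_⟩
      rw [map_add, map_add, mul_add]
      abel

theorem fst_inl (a : ExteriorAlgebra R M) :
    ExteriorAlgebra.map (LinearMap.fst R M R) (ExteriorAlgebra.map (LinearMap.inl R M R) a) = a := by
  rw [← AlgHom.comp_apply, ExteriorAlgebra.map_comp_map, LinearMap.fst_comp_inl, ExteriorAlgebra.map_id,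
    AlgHom.id_apply]

theorem unique_parts (a b : ExteriorAlgebra R M)
    (h : ExteriorAlgebra.map (LinearMap.inl R M R) a + eLast R M * ExteriorAlgebra.map (LinearMap.inl R M R) b = 0) :
    a = 0 ∧ b = 0 := by
  have h1 := congrArg (ExteriorAlgebra.map (LinearMap.fst R M R)) h
  rw [map_add, map_mul, ExteriorAlgebra.map_apply_ι, map_zero, fst_inl] at h1
  simp only [LinearMap.fst_apply, map_zero, zero_mul, add_zero] at h1
  subst h1
  refine ⟨rfl, ?_⟩
  rw [map_zero, zero_add] at h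
  have h2 := congrArg (fun z => ExteriorAlgebra.map (LinearMap.fst R M R) (ct (LinearMap.snd R M R) z)) h
  simp only [map_zero] at h2
  rw [ct_ι_mul, map_sub, map_smul, map_mul, ExteriorAlgebra.map_apply_ι, fst_inl] at h2
  simpa using h2

theorem ct_parts (φ₀ : M →ₗ[R] R) (f : R) (a b : ExteriorAlgebra R M) :
    ct (φ₀.coprod (f • (LinearMap.id : R →ₗ[R] R)))
        (ExteriorAlgebra.map (LinearMap.inl R M R) a + eLast R M * ExteriorAlgebra.map (LinearMap.inl R M R) b) =
      ExteriorAlgebra.map (LinearMap.inl R M R) (ct φ₀ a + f • b) +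
        eLast R M * ExteriorAlgebra.map (LinearMap.inl R M R) (-ct φ₀ b) := by
  rw [map_add, ct_ι_mul, ct_map, ct_map, LinearMap.coprod_inl, map_add, map_smul, map_neg, mul_neg]
  simp only [LinearMap.coprod_apply, map_zero, LinearMap.smul_apply, LinearMap.id_coe, id_eq, smul_eq_mul,
    mul_one, zero_add]
  abel

theorem zero_deg (b : ExteriorAlgebra R M) (hb : b ∈ ⋀[R]^0 M) : ∃ c : R, b = algebraMap R _ c := by
  change _ ∈ LinearMap.range (ExteriorAlgebra.ι R (M := M)) ^ 0 at hb
  rw [pow_zero, Submodule.mem_one] at hb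
  obtain ⟨c, hc⟩ := hb
  exact ⟨c, hc.symm⟩

/-- the inductive step -/
theorem Acyc.prod {φ₀ : M →ₗ[R] R} (h : Acyc φ₀) (f : R)
    (hf : ∀ c : R, f * c ∈ LinearMap.range φ₀ → c ∈ LinearMap.range φ₀) :
    Acyc (φ₀.coprod (f • (LinearMap.id : R →ₗ[R] R))) := by
  intro q x hx
  obtain ⟨a, ha, b, hb, hab⟩ := decompose q x.1 x.2
  have hx' := congrArg Subtype.val hx
  rw [dK_coe, hab, ct_parts, ZeroMemClass.coe_zero] at hx'
  obtain ⟨hA, hB⟩ := unique_parts _ _ hx'
  rw [neg_eq_zero] at hB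
  have hc : ∃ c ∈ ⋀[R]^(q + 1) M, ct φ₀ c = b := by
    rcases q with _ | q
    · obtain ⟨r, rfl⟩ := zero_deg b hb
      change _ ∈ LinearMap.range (ExteriorAlgebra.ι R (M := M)) ^ (0 + 1) at ha
      rw [zero_add, pow_one] at ha
      obtain ⟨m, rfl⟩ := ha
      rw [show ct φ₀ (ExteriorAlgebra.ι R m) = algebraMap R _ (φ₀ m) from
        CliffordAlgebra.contractLeft_ι (Q := (0 : QuadraticForm R M)) φ₀ m, Algebra.smul_def, ← map_mul, ← map_add] at hA
      have e : φ₀ m + f * r = 0 := (ExteriorAlgebra.algebraMap_eq_zero_iff _ _).1 hA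
      obtain ⟨c, hc⟩ := hf r ⟨-m, by rw [map_neg]; exact (eq_neg_of_add_eq_zero_right e).symm⟩
      refine ⟨ExteriorAlgebra.ι R c, ?_, ?_⟩
      · change _ ∈ LinearMap.range (ExteriorAlgebra.ι R (M := M)) ^ (0 + 1)
        rw [zero_add, pow_one]
        exact LinearMap.mem_range_self _ c
      · rw [show ct φ₀ (ExteriorAlgebra.ι R c) = algebraMap R _ (φ₀ c) from
          CliffordAlgebra.contractLeft_ι (Q := (0 : QuadraticForm R M)) φ₀ c, hc]
    · obtain ⟨c, hc⟩ := h q ⟨b, hb⟩ (Subtype.ext hB)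
      exact ⟨c.1, c.2, congrArg Subtype.val hc⟩
  obtain ⟨c, hcm, hc⟩ := hc
  obtain ⟨g, hg⟩ := h q ⟨a + f • c, add_mem ha (Submodule.smul_mem _ _ hcm)⟩ (Subtype.ext (by
    rw [dK_coe, map_add, map_smul, hc, ZeroMemClass.coe_zero]
    exact hA))
  have hgc : ct φ₀ g.1 = a + f • c := congrArg Subtype.val hg
  have hg1 : ExteriorAlgebra.map (LinearMap.inl R M R) g.1 ∈ ⋀[R]^(q + 2) (M × R) := by
    rw [← map_coe]; exact Subtype.prop _
  have hc1 : eLast R M * ExteriorAlgebra.map (LinearMap.inl R M R) c ∈ ⋀[R]^(q + 2) (M × R) :=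
    CI2.ι_mul_mem _ (show ExteriorAlgebra.map (LinearMap.inl R M R) c ∈ ⋀[R]^(q + 1) (M × R) from
      (map_coe (LinearMap.inl R M R) (q + 1) ⟨c, hcm⟩) ▸ Subtype.prop _)
  refine ⟨⟨_, sub_mem hg1 hc1⟩, Subtype.ext ?_⟩
  rw [dK_coe, hab]
  have e : ExteriorAlgebra.map (LinearMap.inl R M R) g.1 - eLast R M * ExteriorAlgebra.map (LinearMap.inl R M R) c =
      ExteriorAlgebra.map (LinearMap.inl R M R) g.1 + eLast R M * ExteriorAlgebra.map (LinearMap.inl R M R) (-c) := by
    rw [map_neg, mul_neg, sub_eq_add_neg]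
  show ct _ (_ - _) = _
  rw [e, ct_parts, hgc, smul_neg, add_neg_cancel_right, map_neg (ct φ₀), hc, neg_neg]

end Diff

section Regular

variable {R : Type u} [CommRing R]

theorem acyc_of_regA : ∀ {n : ℕ} (a : Fin n → R), CotT3.RegA a → Acyc (CotT3.dotA a) := by
  intro n
  induction n with
  | zero => intro a _; exact acyc_subsingleton _
  | succ n ih =>
    intro a ha
    have ha0 : CotT3.RegA (Fin.init a) := fun i x hx => by
      rw [← CotT3.image_Iio_castSucc] at hx ⊢
      exact ha i.castSucc x hx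
    have hr : LinearMap.range (CotT3.dotA (Fin.init a)) = Ideal.span (Set.range (Fin.init a)) := by
      ext x
      refine ⟨?_, fun hx => ?_⟩
      · rintro ⟨r, rfl⟩
        exact CotT3.dotA_mem_span _ r
      · obtain ⟨c, hc⟩ := CotT3.exists_dotA _ hx
        exact ⟨c, hc.symm⟩
    refine ((ih _ ha0).prod (a (Fin.last n)) fun c hc => ?_).equiv
      { toFun := fun p => Fin.snoc p.1 p.2
        invFun := fun r => (Fin.init r, r (Fin.last n))
        left_inv := fun p => by simp
        right_inv := fun r => by simp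
        map_add' := fun p p' => by
          funext i
          induction i using Fin.lastCases <;> simp
        map_smul' := fun c p => by
          funext i
          induction i using Fin.lastCases <;> simp } _ ?_
    · rw [hr] at hc ⊢
      rw [← CotT3.image_Iio_last] at hc ⊢
      exact ha (Fin.last n) c hc
    · refine LinearMap.ext fun p => ?_
      show CotT3.dotA a (Fin.snoc p.1 p.2) = _
      rw [CotT3.dotA_succ, Fin.init_snoc, Fin.snoc_last]
      show _ = CotT3.dotA (Fin.init a) p.1 + a (Fin.last n) * p.2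
      rw [mul_comm]

/-- Koszul acyclicity for a basis mapped to a regular sequence -/
theorem acyc_of_basis {n : ℕ} {M : Type u} [AddCommGroup M] [Module R M] (b : Module.Basis (Fin n) R M)
    (φ : M →ₗ[R] R) (h : RingTheory.Sequence.IsWeaklyRegular R (List.ofFn fun k => φ (b k))) : Acyc φ := by
  refine (acyc_of_regA _ ((CotT3.regA_iff_isWeaklyRegular _).2 h)).equiv b.equivFun.symm φ ?_
  refine LinearMap.ext fun r => ?_
  rw [LinearMap.comp_apply, CotT3.dotA_apply, LinearEquiv.coe_coe, Module.Basis.equivFun_symm_apply, map_sum]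
  simp [smul_eq_mul]

end Regular

end Groth.Agent.KoszShH13
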