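import Groth.Agent.Lib.KoszShH13.Glue
import Groth.Agent.Lib.KoszShH13.Alg

/-! Sections of Koszul complexes over affine opens. -/

set_option autoImplicit false
set_option backward.isDefEq.respectTransparency false
set_option backward.isDefEq.respectTransparency.types false

universe u

open CategoryTheory Limits AlgebraicGeometry Opposite TopologicalSpace exteriorPower

namespace Groth.Agent.KoszShH13

variable {X : Scheme.{u}}

/-- a morphism on sections, as a linear map -/
noncomputable def appLin {M N : X.Modules} (f : M ⟶ N) (U : X.Opens) : Γ(M, U) →ₗ[Γ(X, U)] Γ(N, U) where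
  toFun := f.app U
  map_add' := map_add (f.app U).hom
  map_smul' := fun r m => f.app_smul r m

theorem appLin_apply {M N : X.Modules} (f : M ⟶ N) (U : X.Opens) (m : Γ(M, U)) : appLin f U m = f.app U m := rfl

/-- additive maps out of an exterior power agreeing on multiples of decomposables are equal -/
theorem extPow_ext {R : Type u} [CommRing R] {M : Type u} [AddCommGroup M] [Module R M] {A : Type u}
    [AddCommGroup A] {p : ℕ} (f g : ⋀[R]^p M →+ A)
    (h : ∀ (c : R) (e : Fin p → M), f (c • ιMulti R p e) = g (c • ιMulti R p e)) (x : ⋀[R]^p M) : f x = g x := by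
  have hx : x ∈ Submodule.span R (Set.range (ιMulti R p : (Fin p → M) → ⋀[R]^p M)) := by
    rw [exteriorPower.ιMulti_span]; exact Submodule.mem_top
  suffices ∀ c : R, f (c • x) = g (c • x) by simpa using this 1
  induction hx using Submodule.span_induction with
  | mem x hx => obtain ⟨e, rfl⟩ := hx; exact fun c => h c e
  | zero => simp
  | add x y _ _ hx hy => intro c; rw [smul_add, map_add, map_add, hx, hy]
  | smul d x _ hx => intro c; rw [smul_smul]; exact hx _

variable {E : X.Modules} {s : E ⟶ Coh.structureModule X} (C : KoszSh.Cx E s)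

/-- the differential read through `loc` -/
theorem d_app (p : ℕ) (U : X.affineOpens) (x : ↥(⋀[Γ(X, U.1)]^(p + 1) Γ(E, U.1))) :
    (C.K.d (p + 1) p).app U.1 ((C.loc (p + 1) U).symm x) =
      (C.loc p U).symm (dK (KoszSh.secForm s U.1) p x) := by
  have h : (appLin (C.K.d (p + 1) p) U.1).comp (C.loc (p + 1) U).symm.toLinearMap =
      (C.loc p U).symm.toLinearMap.comp (dK (KoszSh.secForm s U.1) p) := by
    rw [Submodule.linearMap_eq_iff_of_span_eq_top _ _ (exteriorPower.ιMulti_span _ (p + 1) _)]
    rintro ⟨_, e, rfl⟩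
    exact (C.rule p U e).trans (congrArg _ (dK_ιMulti _ p e).symm)
  exact LinearMap.congr_fun h x

theorem exact_app (q : ℕ) (U : X.affineOpens) (h : Acyc (KoszSh.secForm s U.1)) (b : Γ(C.K.X (q + 1), U.1))
    (hb : (C.K.d (q + 1) q).app U.1 b = 0) : ∃ a, (C.K.d (q + 2) (q + 1)).app U.1 a = b := by
  obtain ⟨x, rfl⟩ := (C.loc (q + 1) U).symm.surjective b
  rw [d_app, map_eq_zero_iff _ (C.loc q U).symm.injective] at hb
  obtain ⟨y, hy⟩ := h q x hb
  exact ⟨(C.loc (q + 2) U).symm y, (d_app C (q + 1) U y).trans (congrArg _ hy)⟩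

theorem isZero_homology_of_basis {P : X.affineOpens → Prop} (hP : IsAffBasis P)
    (h : ∀ U, P U → Acyc (KoszSh.secForm s U.1)) (q : ℕ) (hq : 1 ≤ q) : IsZero (C.K.homology q) := by
  obtain ⟨q, rfl⟩ := Nat.exists_eq_add_of_le hq
  rw [add_comm 1 q, ← HomologicalComplex.exactAt_iff_isZero_homology,
    C.K.exactAt_iff' (q + 2) (q + 1) q (by simp) (by simp)]
  exact exact_of_basis hP _ fun U hU b hb => exact_app C q U (h U hU) b hb

end Groth.Agent.KoszShH13
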