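import Groth.Agent.Lib.KoszShH13.Alg

/-! The Koszul differential of a multiple of a split linear form. -/

set_option autoImplicit false

universe u

open exteriorPower

namespace Groth.Agent.KoszShH13

variable {R : Type u} [CommRing R] {M : Type u} [AddCommGroup M] [Module R M] {N : Type u} [AddCommGroup N]
  [Module R N]

/-- a splitting `M = N ⊕ R e` along the form `σ` -/
structure FormSplit (σ : M →ₗ[R] R) (μ : N →ₗ[R] M) (r : M →ₗ[R] N) (e : M) : Prop where
  rμ : r.comp μ = LinearMap.id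
  σμ : σ.comp μ = 0
  dec : ∀ m, μ (r m) + σ m • e = m

variable {σ : M →ₗ[R] R} {μ : N →ₗ[R] M} {r : M →ₗ[R] N} {e : M}

theorem FormSplit.proj_add (h : FormSplit σ μ r e) (x : ExteriorAlgebra R M) :
    ExteriorAlgebra.map (μ.comp r) x + ExteriorAlgebra.ι R e * ct σ x = x := by
  induction x using CliffordAlgebra.left_induction with
  | algebraMap c => rw [ct_algebraMap, AlgHom.commutes, mul_zero, add_zero]
  | add a b ha hb =>
    rw [map_add, map_add, mul_add]
    conv_rhs => rw [← ha, ← hb]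
    abel
  | ι_mul x m ih =>
    set P := ExteriorAlgebra.map (μ.comp r)
    set E := ExteriorAlgebra.ι R e
    have hm : P (ExteriorAlgebra.ι R m) = ExteriorAlgebra.ι R m - σ m • E := by
      rw [ExteriorAlgebra.map_apply_ι, ← map_smul, ← map_sub]
      exact congrArg _ (eq_sub_of_add_eq (h.dec m))
    show P (ExteriorAlgebra.ι R m * x) + E * ct σ (ExteriorAlgebra.ι R m * x) = ExteriorAlgebra.ι R m * x
    have hEE : E * E = 0 := ExteriorAlgebra.ι_sq_zero e
    have hanti : E * ExteriorAlgebra.ι R m = -(ExteriorAlgebra.ι R m * E) :=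
      eq_neg_of_add_eq_zero_left (ExteriorAlgebra.ι_add_mul_swap _ _)
    have hEP : E * x = E * P x := by
      conv_lhs => rw [← ih]
      rw [mul_add, ← mul_assoc, hEE, zero_mul, add_zero]
    rw [map_mul, hm, ct_ι_mul, mul_sub, ← mul_assoc E, hanti, neg_mul, sub_neg_eq_add, mul_smul_comm,
      sub_mul, smul_mul_assoc, hEP, mul_assoc]
    conv_rhs => rw [← ih, mul_add]
    abel

theorem dK_smul_form (g : R) (q : ℕ) (x : ⋀[R]^(q + 1) M) : dK (g • σ) q x = g • dK σ q x :=
  Subtype.ext (by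
    rw [dK_coe, Submodule.coe_smul, dK_coe]
    exact LinearMap.congr_fun (map_smul (CliffordAlgebra.contractLeft (Q := (0 : QuadraticForm R M))) g σ) _)

theorem FormSplit.map_left_inv (h : FormSplit σ μ r e) (q : ℕ) (a : ⋀[R]^q N) :
    exteriorPower.map q r (exteriorPower.map q μ a) = a := by
  rw [← LinearMap.comp_apply, ← exteriorPower.map_comp, h.rμ, exteriorPower.map_id, LinearMap.id_apply]

theorem FormSplit.ct_map_eq_zero (h : FormSplit σ μ r e) (a : ExteriorAlgebra R N) :
    ct σ (ExteriorAlgebra.map μ a) = 0 := by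
  rw [ct_map, h.σμ, show ct (0 : N →ₗ[R] R) a = 0 from LinearMap.congr_fun
    (map_zero (CliffordAlgebra.contractLeft (Q := (0 : QuadraticForm R N)))) a, map_zero]

theorem FormSplit.dK_map_eq_zero (h : FormSplit σ μ r e) (g : R) (q : ℕ) (a : ⋀[R]^(q + 1) N) :
    dK (g • σ) q (exteriorPower.map (q + 1) μ a) = 0 := by
  rw [dK_smul_form]
  refine Subtype.ext ?_
  rw [Submodule.coe_smul, dK_coe, map_coe, h.ct_map_eq_zero, smul_zero]
  rfl

theorem FormSplit.eq_map_zero (h : FormSplit σ μ r e) (x : ⋀[R]^0 M) :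
    exteriorPower.map 0 μ (exteriorPower.map 0 r x) = x := by
  obtain ⟨c, hc⟩ := zero_deg x.1 x.2
  refine Subtype.ext ?_
  rw [map_coe, map_coe, hc, AlgHom.commutes, AlgHom.commutes]

theorem FormSplit.eq_map_succ (h : FormSplit σ μ r e) {g : R} (q : ℕ)
    (hg : IsSMulRegular (⋀[R]^q M) g) (x : ⋀[R]^(q + 1) M) (hx : dK (g • σ) q x = 0) :
    exteriorPower.map (q + 1) μ (exteriorPower.map (q + 1) r x) = x := by
  rw [dK_smul_form] at hx
  have h0 : ct σ x.1 = 0 := congrArg Subtype.val (hg.right_eq_zero_of_smul hx)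
  refine Subtype.ext ?_
  rw [← LinearMap.comp_apply, ← exteriorPower.map_comp, map_coe]
  conv_rhs => rw [← h.proj_add x.1, h0, mul_zero, add_zero]

/-- boundaries are multiples of cycles -/
theorem FormSplit.boundary (h : FormSplit σ μ r e) (g : R) (q : ℕ) (y : ⋀[R]^(q + 1) M) :
    dK (g • σ) q y = g • exteriorPower.map q μ (exteriorPower.map q r (dK σ q y)) := by
  rw [dK_smul_form]
  congr 1
  refine Subtype.ext ?_
  rw [← LinearMap.comp_apply, ← exteriorPower.map_comp, map_coe, dK_coe]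
  conv_lhs => rw [← h.proj_add (ct σ y.1), CliffordAlgebra.contractLeft_contractLeft, mul_zero, add_zero]

/-- multiples of cycles are boundaries -/
theorem FormSplit.exists_boundary (h : FormSplit σ μ r e) (he : σ e = 1) (g : R) (q : ℕ) (a : ⋀[R]^q N) :
    ∃ y, dK (g • σ) q y = g • exteriorPower.map q μ a := by
  refine ⟨⟨ExteriorAlgebra.ι R e * (exteriorPower.map q μ a).1, CI2.ι_mul_mem e (Subtype.prop _)⟩, ?_⟩
  rw [dK_smul_form]
  congr 1
  refine Subtype.ext ?_
  rw [dK_coe, ct_ι_mul, he, one_smul, map_coe, h.ct_map_eq_zero, mul_zero, sub_zero]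

end Groth.Agent.KoszShH13
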