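import Groth.Agent.Lib.KoszShH13.Main
import Groth.Agent.Lib.KoszShH13.CopiesAlg
import Groth.Prelude.Def_ExtPow2

/-! Cycles and homology of the Koszul complex of copies of one divisor. -/

set_option autoImplicit false
set_option backward.isDefEq.respectTransparency false
set_option backward.isDefEq.respectTransparency.types false

universe u

open CategoryTheory Limits AlgebraicGeometry Opposite TopologicalSpace exteriorPower

namespace Groth.Agent.KoszShH13

variable {X : Scheme.{u}} {n : ℕ} (I : X.IdealSheafData)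

/-- the constant family -/
abbrev cst : Fin n → X.IdealSheafData := fun _ => I

/-- the matrix of `δ_j ↦ e_j - e_last` -/
def Mat (X : Scheme.{u}) (U : X.Opens) (i : Fin n) (j : Fin (n - 1)) : Γ(X, U) :=
  (if i.1 = j.1 then 1 else 0) - (if i.1 + 1 = n then 1 else 0)

theorem Mat_res {U V : X.Opens} (h : V ≤ U) (i : Fin n) (j : Fin (n - 1)) :
    M1.ores h (Mat X U i j) = Mat X V i j := by
  unfold Mat
  split_ifs <;> simp

/-- coordinates of a section of the free module -/
noncomputable def fr {m : ℕ} (U : X.Opens) (j : Fin m) : Γ(FlatMod.freeMod X m, U) →ₗ[Γ(X, U)] Γ(X, U) :=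
  KoszSh.secForm (Sigma.π (fun _ : Fin m => Coh.structureModule X) j) U

theorem fr_ext {m : ℕ} {U : X.Opens} {v v' : Γ(FlatMod.freeMod X m, U)} (h : ∀ j, fr U j v = fr U j v') :
    v = v' := by
  rw [← eq_sum (fun _ : Fin m => Coh.structureModule X) U v, ← eq_sum (fun _ : Fin m => Coh.structureModule X) U v']
  exact Finset.sum_congr rfl fun j _ => congrArg _ (h j)

theorem exists_fr {m : ℕ} (U : X.Opens) (c : Fin m → Γ(X, U)) :
    ∃ v : Γ(FlatMod.freeMod X m, U), ∀ j, fr U j v = c j :=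
  ⟨∑ j, (Sigma.ι (fun _ : Fin m => Coh.structureModule X) j).app U (show Γ(Coh.structureModule X, U) from c j),
    fun j => π_ι_app (fun _ : Fin m => Coh.structureModule X) U j
      fun j => (show Γ(Coh.structureModule X, U) from c j)⟩

theorem fr_res {m : ℕ} {U V : X.Opens} (h : V ≤ U) (j : Fin m) (v : Γ(FlatMod.freeMod X m, U)) :
    fr V j (M1.mres _ h v) = M1.ores h (fr U j v) :=
  M1.map_app_eq (Sigma.π (fun _ : Fin m => Coh.structureModule X) j) h v

variable {I} {U : X.affineOpens} (g : Γ(X, U.1)) (hg : g ∈ I.ideal U)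

include hg in
theorem muFun_mem (v : Γ(FlatMod.freeMod X (n - 1), U.1)) (i : Fin n) :
    g * ∑ j, Mat X U.1 i j * fr U.1 j v ∈ (cst I i).ideal U := Ideal.mul_mem_right _ _ hg

/-- `O^{n-1} → ⊕ I`, depending on a section `g` of `I` -/
noncomputable def muG : Γ(FlatMod.freeMod X (n - 1), U.1) →ₗ[Γ(X, U.1)] Γ(ESum (cst (n := n) I), U.1) where
  toFun v := (exists_co (cst (n := n) I) U _ (muFun_mem g hg v)).choose
  map_add' v v' := co_ext _ fun i => by
    rw [co_add, (exists_co (cst (n := n) I) U _ (muFun_mem g hg (v + v'))).choose_spec,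
      (exists_co (cst (n := n) I) U _ (muFun_mem g hg v)).choose_spec,
      (exists_co (cst (n := n) I) U _ (muFun_mem g hg v')).choose_spec, ← mul_add, ← Finset.sum_add_distrib]
    exact congrArg _ (Finset.sum_congr rfl fun j _ => by rw [map_add, mul_add])
  map_smul' c v := co_ext _ fun i => by
    rw [RingHom.id_apply, co_smul, (exists_co (cst (n := n) I) U _ (muFun_mem g hg (c • v))).choose_spec,
      (exists_co (cst (n := n) I) U _ (muFun_mem g hg v)).choose_spec, Finset.mul_sum, Finset.mul_sum, Finset.mul_sum]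
    exact Finset.sum_congr rfl fun j _ => by rw [map_smul, smul_eq_mul]; ring

theorem co_muG (v : Γ(FlatMod.freeMod X (n - 1), U.1)) (i : Fin n) :
    co (cst (n := n) I) U.1 i (muG g hg v) = g * ∑ j, Mat X U.1 i j * fr U.1 j v :=
  (exists_co (cst (n := n) I) U _ (muFun_mem g hg v)).choose_spec i

theorem muG_smul (c : Γ(X, U.1)) (hcg : c * g ∈ I.ideal U) : muG (n := n) (c * g) hcg = c • muG g hg :=
  LinearMap.ext fun v => co_ext _ fun i => by
    rw [LinearMap.smul_apply, co_smul, co_muG, co_muG, mul_assoc]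

theorem muG_res {V : X.affineOpens} (h : V.1 ≤ U.1) (hg' : M1.ores h g ∈ I.ideal V)
    (v : Γ(FlatMod.freeMod X (n - 1), U.1)) :
    M1.mres _ h (muG (n := n) g hg v) = muG (n := n) (M1.ores h g) hg' (M1.mres _ h v) :=
  co_ext _ fun i => by
    rw [co_res, co_muG, co_muG, map_mul, map_sum]
    exact congrArg _ (Finset.sum_congr rfl fun j _ => by rw [map_mul, Mat_res, fr_res])

theorem exists_formSplit (h : IsGen I U g) :
    ∃ σ r e, FormSplit σ (muG (n := n) g h.mem) r e ∧ KoszSh.secForm (sSum (cst (n := n) I)) U.1 = g • σ ∧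
      (1 ≤ n → σ e = 1) := by
  classical
  have hdiv : ∀ (w : Γ(ESum (cst (n := n) I), U.1)) i, ∃ c, c * g = co (cst (n := n) I) U.1 i w := fun w i =>
    Ideal.mem_span_singleton'.1 (h.2 ▸ co_mem (cst (n := n) I) U i w)
  choose c hc using hdiv
  have cancel : ∀ {a b : Γ(X, U.1)}, a * g = b * g → a = b := fun e => (mul_cancel_right_mem_nonZeroDivisors h.1).mp e
  have hcadd : ∀ w w' i, c (w + w') i = c w i + c w' i := fun w w' i =>
    cancel (by rw [add_mul, hc, hc, hc, co_add])
  have hcsmul : ∀ r w i, c (r • w) i = r * c w i := fun r w i => cancel (by rw [mul_assoc, hc, hc, co_smul])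
  let σ : Γ(ESum (cst (n := n) I), U.1) →ₗ[Γ(X, U.1)] Γ(X, U.1) :=
    { toFun := fun w => ∑ i, c w i
      map_add' := fun w w' => by simp only [hcadd, Finset.sum_add_distrib]
      map_smul' := fun r w => by simp only [hcsmul, Finset.mul_sum, smul_eq_mul, RingHom.id_apply] }
  choose rv hrv using fun w => exists_fr (m := n - 1) U.1 fun j => c w ⟨j.1, by omega⟩
  let r : Γ(ESum (cst (n := n) I), U.1) →ₗ[Γ(X, U.1)] Γ(FlatMod.freeMod X (n - 1), U.1) :=
    { toFun := rv
      map_add' := fun w w' => fr_ext fun j => by rw [map_add, hrv, hrv, hrv, hcadd]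
      map_smul' := fun a w => fr_ext fun j => by rw [RingHom.id_apply, map_smul, hrv, hrv, hcsmul, smul_eq_mul] }
  obtain ⟨e, he⟩ := exists_co (cst (n := n) I) U (fun i => (if i.1 + 1 = n then 1 else 0) * g) fun i =>
    Ideal.mul_mem_left _ _ h.mem
  have hce : ∀ i, c e i = if i.1 + 1 = n then 1 else 0 := fun i => cancel ((hc e i).trans (he i))
  have hcμ : ∀ v i, c (muG (n := n) g h.mem v) i = ∑ j, Mat X U.1 i j * fr U.1 j v := fun v i =>
    cancel (by rw [hc, co_muG, mul_comm])
  refine ⟨σ, r, e, ⟨?_, ?_, ?_⟩, ?_, ?_⟩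
  · refine LinearMap.ext fun v => fr_ext fun j => ?_
    show fr U.1 j (rv (muG (n := n) g h.mem v)) = fr U.1 j v
    rw [hrv, hcμ, Finset.sum_eq_single j]
    · simp [Mat, show ¬(j.1 + 1 = n) by omega]
    · intro k _ hk
      simp [Mat, show ¬(j.1 + 1 = n) by omega, Fin.val_ne_of_ne (Ne.symm hk)]
    · simp
  · refine LinearMap.ext fun v => ?_
    show ∑ i, c (muG (n := n) g h.mem v) i = 0
    simp only [hcμ]
    rw [Finset.sum_comm]
    refine Finset.sum_eq_zero fun j _ => ?_
    have := j.isLt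
    rw [← Finset.sum_mul]
    convert zero_mul (fr U.1 j v)
    simp only [Mat, Finset.sum_sub_distrib]
    rw [Finset.sum_eq_single (⟨j.1, by omega⟩ : Fin n), Finset.sum_eq_single (⟨n - 1, by omega⟩ : Fin n)]
    · simp [show n - 1 + 1 = n by omega]
    · intro k _ hk
      simp [show ¬(k.1 + 1 = n) from fun h' => hk (Fin.ext (by simp; omega))]
    · simp
    · intro k _ hk
      simp [show ¬(k.1 = j.1) from fun h' => hk (Fin.ext h')]
    · simp
  · intro w
    refine co_ext _ fun i => ?_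
    rw [co_add, co_smul, co_muG, he, ← hc w i]
    show g * (∑ j, Mat X U.1 i j * fr U.1 j (rv w)) + (∑ k, c w k) * _ = c w i * g
    have key : (∑ j, Mat X U.1 i j * fr U.1 j (rv w)) + (∑ k, c w k) * (if i.1 + 1 = n then 1 else 0) = c w i := by
      simp only [hrv, Mat, sub_mul, Finset.sum_sub_distrib]
      by_cases hi : i.1 + 1 = n
      · simp only [if_pos hi, one_mul, mul_one]
        rw [Finset.sum_eq_zero fun j _ => by rw [if_neg (by omega), zero_mul]]
        obtain ⟨m, rfl⟩ : ∃ m, n = m + 1 := ⟨n - 1, by omega⟩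
        rw [Fin.sum_univ_castSucc (fun k => c w k), zero_sub, show i = Fin.last m from Fin.ext (by simp; omega)]
        show -(∑ j : Fin m, c w j.castSucc) + _ = _
        abel
      · simp only [if_neg hi, zero_mul, Finset.sum_const_zero, sub_zero, mul_zero, add_zero]
        rw [Finset.sum_eq_single (⟨i.1, by omega⟩ : Fin (n - 1))]
        · simp
        · intro j _ hj
          rw [if_neg (fun h' => hj (Fin.ext h'.symm)), zero_mul]
        · simp
    rw [← key]; ring
  · refine LinearMap.ext fun w => ?_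
    rw [secForm_eq_sum, LinearMap.smul_apply, smul_eq_mul]
    show _ = g * ∑ i, c w i
    rw [Finset.mul_sum]
    exact Finset.sum_congr rfl fun i _ => by rw [← hc, mul_comm]
  · intro hn
    show ∑ i, c e i = 1
    simp only [hce]
    rw [Finset.sum_eq_single (⟨n - 1, by omega⟩ : Fin n)]
    · simp [show n - 1 + 1 = n by omega]
    · intro k _ hk
      simp [show ¬(k.1 + 1 = n) from fun h' => hk (Fin.ext (by simp; omega))]
    · simp

section Lam

variable (C : KoszSh.Cx (ESum (cst (n := n) I)) (sSum (cst (n := n) I))) {q : ℕ} {L : X.Modules}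
  (locL : ∀ U : X.affineOpens, Γ(L, U.1) ≃ₗ[Γ(X, U.1)] ↥(⋀[Γ(X, U.1)]^q Γ(FlatMod.freeMod X (n - 1), U.1)))

/-- the parametrisation of cycles -/
noncomputable def Lam : Γ(L, U.1) →ₗ[Γ(X, U.1)] Γ(C.K.X q, U.1) :=
  (C.loc q U).symm.toLinearMap.comp ((exteriorPower.map q (muG g hg)).comp (locL U).toLinearMap)

theorem Lam_loc (x : ↥(⋀[Γ(X, U.1)]^q Γ(FlatMod.freeMod X (n - 1), U.1))) :
    Lam g hg C locL ((locL U).symm x) = (C.loc q U).symm (exteriorPower.map q (muG g hg) x) := by
  simp [Lam]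

theorem injective_Lam (h : IsGen I U g) : Function.Injective (Lam g hg C locL) := by
  obtain ⟨σ, r, e, hs, -, -⟩ := exists_formSplit (n := n) g h
  exact (C.loc q U).symm.injective.comp
    ((Function.LeftInverse.injective (g := exteriorPower.map q r) (hs.map_left_inv q)).comp (locL U).injective)

theorem Lam_smul (c : Γ(X, U.1)) (hcg : c * g ∈ I.ideal U) (a : Γ(L, U.1)) :
    Lam (c * g) hcg C locL a = c ^ q • Lam g hg C locL a := by
  have h : exteriorPower.map q (muG (n := n) (c * g) hcg) = c ^ q • exteriorPower.map q (muG (n := n) g hg) := by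
    rw [muG_smul g hg c hcg, Submodule.linearMap_eq_iff_of_span_eq_top _ _ (exteriorPower.ιMulti_span _ q _)]
    rintro ⟨_, e, rfl⟩
    rw [LinearMap.smul_apply, exteriorPower.map_apply_ιMulti, exteriorPower.map_apply_ιMulti]
    refine ((exteriorPower.ιMulti Γ(X, U.1) q).toMultilinearMap.map_smul_univ (fun _ => c) _).trans ?_
    rw [Finset.prod_const, Finset.card_univ, Fintype.card_fin]
    rfl
  simp [Lam, h]

theorem Lam_res
    (hL : ∀ (U V : X.affineOpens) (h : V.1 ≤ U.1) (e : Fin q → Γ(FlatMod.freeMod X (n - 1), U.1)),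
      M1.mres L h ((locL U).symm (ιMulti _ q e)) = (locL V).symm (ιMulti _ q fun j => M1.mres _ h (e j)))
    {V : X.affineOpens} (h : V.1 ≤ U.1) (hg' : M1.ores h g ∈ I.ideal V) (a : Γ(L, U.1)) :
    M1.mres (C.K.X q) h (Lam g hg C locL a) = Lam (M1.ores h g) hg' C locL (M1.mres L h a) := by
  obtain ⟨x, rfl⟩ := (locL U).symm.surjective a
  refine extPow_ext (((M1.mres (C.K.X q) h).hom.comp (Lam g hg C locL).toAddMonoidHom).comp
      (locL U).symm.toLinearMap.toAddMonoidHom)
    (((Lam (M1.ores h g) hg' C locL).toAddMonoidHom.comp (M1.mres L h).hom).comp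
      (locL U).symm.toLinearMap.toAddMonoidHom) (fun c e => ?_) x
  show M1.mres (C.K.X q) h (Lam g hg C locL ((locL U).symm (c • _))) =
    Lam (M1.ores h g) hg' C locL (M1.mres L h ((locL U).symm (c • _)))
  rw [map_smul, map_smul, M1.mres_smul, M1.mres_smul, map_smul, Lam_loc, exteriorPower.map_apply_ιMulti]
  congr 1
  refine (C.loc_res q U V h _).trans ?_
  refine Eq.trans ?_ (congrArg (Lam (M1.ores h g) hg' C locL) (hL U V h e).symm)
  rw [Lam_loc, exteriorPower.map_apply_ιMulti]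
  congr 2
  funext j
  exact muG_res g hg h hg' (e j)

theorem mem_range_Lam (h : IsGen I U g) (y : Γ(C.K.X q, U.1)) (hy : ∀ j, (C.K.d q j).app U.1 y = 0) :
    ∃ a, Lam g hg C locL a = y := by
  obtain ⟨σ, r, e, hs, hφ, -⟩ := exists_formSplit (n := n) g h
  obtain ⟨x, rfl⟩ := (C.loc q U).symm.surjective y
  refine ⟨(locL U).symm (exteriorPower.map q r x), (Lam_loc g hg C locL _).trans (congrArg _ ?_)⟩
  cases q with
  | zero => exact hs.eq_map_zero x
  | succ k =>
    have h0 := hy k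
    rw [d_app, map_eq_zero_iff _ (C.loc k U).symm.injective, hφ] at h0
    refine hs.eq_map_succ k ?_ x h0
    haveI := free_ESum (IY := cst (n := n) I) (U := U) fun _ => ⟨g, h⟩
    exact IsSMulRegular.of_injective (Module.Free.chooseBasis Γ(X, U.1) (⋀[Γ(X, U.1)]^k _)).repr.toLinearMap
      (Module.Free.chooseBasis Γ(X, U.1) (⋀[Γ(X, U.1)]^k _)).repr.injective
      (IsSMulRegular.finsupp (isRegular_iff_mem_nonZeroDivisors.mpr h.1).left.isSMulRegular)

theorem d_Lam (h : IsGen I U g) (a : Γ(L, U.1)) (j : ℕ) : (C.K.d q j).app U.1 (Lam g hg C locL a) = 0 := by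
  by_cases hr : (ComplexShape.down ℕ).Rel q j
  · obtain rfl : j + 1 = q := hr
    obtain ⟨σ, r, e, hs, hφ, -⟩ := exists_formSplit (n := n) g h
    obtain ⟨x, rfl⟩ := (locL U).symm.surjective a
    rw [Lam_loc, d_app, hφ, hs.dK_map_eq_zero, map_zero]
  · rw [C.K.shape q j hr]
    rfl

theorem d_succ_mem (h : IsGen I U g) (y : Γ(C.K.X (q + 1), U.1)) :
    ∃ a, (C.K.d (q + 1) q).app U.1 y = g • Lam g hg C locL a := by
  obtain ⟨σ, r, e, hs, hφ, -⟩ := exists_formSplit (n := n) g h
  obtain ⟨x, rfl⟩ := (C.loc (q + 1) U).symm.surjective y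
  exact ⟨(locL U).symm (exteriorPower.map q r (dK σ q x)), by rw [Lam_loc, d_app, hφ, hs.boundary, map_smul]⟩

theorem exists_d_succ (hn : 1 ≤ n) (h : IsGen I U g) (a : Γ(L, U.1)) :
    ∃ y, (C.K.d (q + 1) q).app U.1 y = g • Lam g hg C locL a := by
  obtain ⟨σ, r, e, hs, hφ, he⟩ := exists_formSplit (n := n) g h
  obtain ⟨x, rfl⟩ := (locL U).symm.surjective a
  obtain ⟨y, hy⟩ := hs.exists_boundary (he hn) g q x
  exact ⟨(C.loc (q + 1) U).symm y, by rw [Lam_loc, d_app, hφ, hy, map_smul]⟩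

end Lam

section Main

/-- affine opens where the divisor is principal -/
def GenI (I : X.IdealSheafData) (U : X.affineOpens) : Prop := ∃ g, IsGen I U g

theorem isAffBasis_genI (hI : BlowUp.IsEffCartierIdeal I) : IsAffBasis (GenI I) := by
  intro O x hx
  obtain ⟨U₀, hx₀, g₀, hg₀⟩ := hI x
  obtain ⟨V, -, hxV, hVO⟩ := isAffBasis_top (O ⊓ U₀.1) x ⟨hx, hx₀⟩
  exact ⟨V, ⟨_, IsGen.res (hVO.trans inf_le_right) ⟨hg₀.1, hg₀.2⟩⟩, hxV, hVO.trans inf_le_left⟩

variable (hI : IsAffBasis (GenI I)) (C : KoszSh.Cx (ESum (cst (n := n) I)) (sSum (cst (n := n) I))) (q : ℕ)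

include hI in
/-- the cycles -/
theorem cycles_iso {L : X.Modules} (hLE : ExtPow.IsExtPow q (FlatMod.freeMod X (n - 1)) L) :
    Nonempty (C.K.cycles q ≅ CohB1.tensorMod L (CohB1.tensorPow (ClSub.idealMod I) q)) := by
  obtain ⟨locL, hlocL⟩ := hLE
  let i := C.K.iCycles q
  have hcyc : ∀ (U : X.affineOpens) (g : Γ(X, U.1)) (hg : IsGen I U g) (z : Γ(C.K.cycles q, U.1)),
      ∃ a, Lam g hg.mem C locL a = i.app U.1 z := fun U g hg z =>
    mem_range_Lam g hg.mem C locL hg _ fun j =>
      congrArg (fun φ : C.K.cycles q ⟶ C.K.X j => φ.app U.1 z) (C.K.iCycles_d q j)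
  choose α hα using hcyc
  let f : ∀ U : X.affineOpens, GenI I U →
      (Γ(C.K.cycles q, U.1) →+ Γ(CohB1.tensorMod L (CohB1.tensorPow (ClSub.idealMod I) q), U.1)) :=
    fun U hU => AddMonoidHom.mk' (fun z => SecTwist.tmul _ _ U.1 (α U hU.choose hU.choose_spec z)
      (powGen I q hU.choose hU.choose_spec.mem)) fun z z' => by
        rw [← tmul_add_left]
        refine congrArg (fun a => SecTwist.tmul _ _ U.1 a _) (injective_Lam _ hU.choose_spec.mem C locL hU.choose_spec ?_)
        rw [hα, map_add, map_add, hα, hα]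
  have key : ∀ U hU (g : Γ(X, U.1)) (hg : IsGen I U g) (z : Γ(C.K.cycles q, U.1)) (a : Γ(L, U.1)),
      Lam g hg.mem C locL a = i.app U.1 z → f U hU z = SecTwist.tmul _ _ U.1 a (powGen I q g hg.mem) := by
    intro U hU g hg z a ha
    set g₀ := hU.choose
    have hg₀ : IsGen I U g₀ := hU.choose_spec
    obtain ⟨c, rfl⟩ := Ideal.mem_span_singleton'.1 (hg₀.2 ▸ hg.mem : g ∈ Ideal.span {g₀})
    rw [Lam_smul g₀ hg₀.mem C locL c hg.mem, ← map_smul, ← hα U g₀ hg₀ z] at ha
    show SecTwist.tmul _ _ U.1 (α U g₀ hg₀ z) (powGen I q g₀ hg₀.mem) = _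
    rw [← injective_Lam g₀ hg₀.mem C locL hg₀ ha, powGen_smul I q c g₀ hg₀.mem hg.mem]
    exact (tmul_smul_left _ _ _).trans (tmul_smul_right _ _ _).symm
  have hres : ∀ {V W : X.affineOpens} (h : W.1 ≤ V.1) (g : Γ(X, V.1)) (hg : IsGen I V g) (a : Γ(L, V.1)),
      M1.mres (C.K.X q) h (Lam g hg.mem C locL a) = Lam (M1.ores h g) (hg.res h).mem C locL (M1.mres L h a) :=
    fun h g hg a => Lam_res g hg.mem C locL (fun U V h e => hlocL U V h e) h (hg.res h).mem a
  obtain ⟨Ω, hΩ⟩ := exists_glue hI f (fun U hU r z => by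
      refine (key U hU _ hU.choose_spec (r • z) (r • α U hU.choose hU.choose_spec z) ?_).trans ?_
      · rw [map_smul, hα, i.app_smul]
      · exact tmul_smul_left r _ _)
    (fun V hV W hW h z => by
      have hg := hV.choose_spec
      rw [key W hW _ (hg.res h) (M1.mres _ h z) (M1.mres L h (α V hV.choose hg z))
        (by rw [← hres h _ hg, hα, M1.map_app_eq]), ← powGen_res I h q _ hg.mem (hg.res h).mem, ← mres_tmul]
      rfl)
  have : IsIso Ω := by
    rw [M1.isIso_iff_stalk]
    intro z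
    show Function.Bijective (stLin Ω z)
    refine ⟨(injective_iff_map_eq_zero _).2 fun b hb => ?_, fun b => ?_⟩
    · obtain ⟨V, hV, hzV, -, y, rfl⟩ := exists_germ_good hI _ (show z ∈ (⊤ : X.Opens) from trivial) b
      rw [stLin_germ, hΩ V hV, key V hV _ hV.choose_spec y _ (hα V _ hV.choose_spec y),
        ← tau_germ _ _ hzV (powGen I q hV.choose hV.choose_spec.mem) rfl] at hb
      have hm := (bijective_tau _ (isGenAt_powGen I hV.choose_spec hzV q)).1 (hb.trans (map_zero _).symm)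
      obtain ⟨W, -, hzW, hWV, he⟩ := germ_eq_zero hI _ hzV _ hm
      apply injective_stLin_of_mono i z
      rw [stLin_germ, ← hα V _ hV.choose_spec y, ← M1.germ_mres _ hWV hzW, hres hWV _ hV.choose_spec, he, map_zero,
        map_zero, map_zero]
    · obtain ⟨V, ⟨g, hg⟩, hzV, -⟩ := hI ⊤ z trivial
      obtain ⟨m, rfl⟩ := (bijective_tau _ (isGenAt_powGen I hg hzV q)).2 b
      obtain ⟨W, hW, hzW, hWV, a, rfl⟩ := exists_germ_good hI _ hzV m
      obtain ⟨b, hb⟩ := stLin_exact (ShortComplex.exact_of_f_is_kernel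
          (ShortComplex.mk _ _ (C.K.iCycles_d q ((ComplexShape.down ℕ).next q)))
          (C.K.cyclesIsKernel q _ rfl)) z
        ((C.K.X q).presheaf.germ W.1 z hzW (Lam (M1.ores hWV g) (hg.res hWV).mem C locL a)) (by
          show stLin (C.K.d q _) z _ = 0
          rw [stLin_germ, d_Lam _ _ C locL (hg.res hWV), map_zero])
      obtain ⟨W', -, hzW', hW'W, y, rfl⟩ := exists_germ_good hI _ hzW b
      change stLin i z _ = _ at hb
      rw [stLin_germ] at hb
      obtain ⟨T, hzT, i₁, i₂, he⟩ := (C.K.X q).presheaf.germ_eq z hzW' hzW _ _ hb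
      obtain ⟨T', hT', hzT', hT'T⟩ := hI T z hzT
      have hWT : T'.1 ≤ W.1 := hT'T.trans i₂.le
      have he' : i.app T'.1 (M1.mres _ (hT'T.trans i₁.le) y) =
          Lam (M1.ores hWT (M1.ores hWV g)) ((hg.res hWV).res hWT).mem C locL (M1.mres L hWT a) := by
        rw [← hres hWT _ (hg.res hWV), M1.map_app_eq, ← M1.mres_mres _ i₁.le hT'T, ← M1.mres_mres _ i₂.le hT'T]
        exact congrArg _ he
      refine ⟨(C.K.cycles q).presheaf.germ T'.1 z hzT' (M1.mres _ (hT'T.trans i₁.le) y), ?_⟩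
      rw [stLin_germ, hΩ T' hT', key T' hT' _ ((hg.res hWV).res hWT) _ _ he'.symm,
        tau_germ _ _ hzW (powGen I q (M1.ores hWV g) (hg.res hWV).mem) (by
          rw [← powGen_res I hWV q g hg.mem (hg.res hWV).mem, M1.germ_mres]),
        ← powGen_res I hWT q _ (hg.res hWV).mem, ← mres_tmul, M1.germ_mres]
  exact ⟨asIso Ω⟩

theorem exists_freeExtPow : ∀ U : X.affineOpens, Module.Free Γ(X, U.1) Γ(FlatMod.freeMod X n, U.1) := fun U => by
  let e : Γ(FlatMod.freeMod X n, U.1) →ₗ[Γ(X, U.1)] (Fin n → Γ(X, U.1)) := LinearMap.pi fun j => fr U.1 j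
  exact Module.Free.of_equiv (LinearEquiv.ofBijective e ⟨fun v v' h => fr_ext fun j => congrFun h j,
    fun c => (exists_fr U.1 c).imp fun v hv => funext hv⟩).symm

include hI in
/-- boundaries are the multiples of cycles -/
theorem stLin_homologyπ_eq_zero_iff (hn : 1 ≤ n) {L : X.Modules}
    (hLE : ExtPow.IsExtPow q (FlatMod.freeMod X (n - 1)) L) {U : X.affineOpens} {g : Γ(X, U.1)} (hg : IsGen I U g)
    {z : X} (hz : z ∈ U.1) (b : ((C.K.cycles q).presheaf.stalk z : Type u)) :
    stLin (C.K.homologyπ q) z b = 0 ↔ ∃ b', X.presheaf.germ U.1 z hz g • b' = b := by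
  obtain ⟨locL, hlocL⟩ := hLE
  have hker := ShortComplex.exact_of_f_is_kernel
    (ShortComplex.mk _ _ (C.K.iCycles_d q ((ComplexShape.down ℕ).next q))) (C.K.cyclesIsKernel q _ rfl)
  constructor
  · intro h
    obtain ⟨y, rfl⟩ := stLin_exact (ShortComplex.exact_of_g_is_cokernel
      (ShortComplex.mk _ _ (C.K.toCycles_comp_homologyπ (q + 1) q)) (C.K.homologyIsCokernel (q + 1) q (by simp))) z b h
    obtain ⟨W, -, hzW, hWU, y, rfl⟩ := exists_germ_good hI _ hz y
    obtain ⟨a, ha⟩ := d_succ_mem (q := q) _ (hg.res hWU).mem C locL (hg.res hWU) y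
    obtain ⟨b', hb'⟩ := stLin_exact hker z ((C.K.X q).presheaf.germ W.1 z hzW (Lam _ (hg.res hWU).mem C locL a)) (by
      show stLin (C.K.d q _) z _ = 0
      rw [stLin_germ, d_Lam _ _ C locL (hg.res hWU), map_zero])
    refine ⟨b', injective_stLin_of_mono (C.K.iCycles q) z ?_⟩
    show stLin (C.K.iCycles q) z _ = stLin (C.K.iCycles q) z (stLin (C.K.toCycles (q + 1) q) z _)
    rw [map_smul, show stLin (C.K.iCycles q) z b' = _ from hb', ← stLin_comp (C.K.toCycles (q + 1) q),
      C.K.toCycles_i, stLin_germ, ha, M1.germ_smul]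
    exact congrArg (· • _) (TopCat.Presheaf.germ_res_apply X.presheaf _ _ _ _).symm
  · rintro ⟨b', rfl⟩
    obtain ⟨W, -, hzW, hWU, y, rfl⟩ := exists_germ_good hI _ hz b'
    obtain ⟨a, ha⟩ := mem_range_Lam _ (hg.res hWU).mem C locL (hg.res hWU) ((C.K.iCycles q).app W.1 y) fun j =>
      congrArg (fun φ : C.K.cycles q ⟶ C.K.X j => φ.app W.1 y) (C.K.iCycles_d q j)
    obtain ⟨w, hw⟩ := exists_d_succ _ (hg.res hWU).mem C locL hn (hg.res hWU) a
    have he : stLin (C.K.toCycles (q + 1) q) z ((C.K.X (q + 1)).presheaf.germ W.1 z hzW w) =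
        X.presheaf.germ U.1 z hz g • (C.K.cycles q).presheaf.germ W.1 z hzW y := by
      apply injective_stLin_of_mono (C.K.iCycles q) z
      rw [map_smul, stLin_germ (C.K.iCycles q), ← stLin_comp, C.K.toCycles_i, stLin_germ, hw, ha, M1.germ_smul]
      exact congrArg (· • _) (TopCat.Presheaf.germ_res_apply X.presheaf _ _ _ _)
    rw [← he, ← stLin_comp, C.K.toCycles_comp_homologyπ, stLin_zero]

end Main

end Groth.Agent.KoszShH13
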