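import Groth.Agent.Lib.KoszShH13.TwistLB
import Groth.Prelude.Def_ExtPow2

/-! Twisted Koszul complexes: cycles, boundaries and twisted exterior powers. -/

set_option autoImplicit false
set_option backward.isDefEq.respectTransparency false
set_option backward.isDefEq.respectTransparency.types false

universe u

open CategoryTheory Limits AlgebraicGeometry Opposite TopologicalSpace exteriorPower

namespace Groth.Agent.KoszShH13

variable {X : Scheme.{u}} {F L : X.Modules} {s : F ⟶ Coh.structureModule X} {lam : Coh.structureModule X ⟶ L}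
  {t : CohB1.tensorMod F L ⟶ Coh.structureModule X} (C : KoszSh.Cx F s) (D : KoszSh.Cx (CohB1.tensorMod F L) t)

theorem d_Theta {U : X.affineOpens} (l : Γ(L, U.1)) (q : ℕ) (x : ↥(⋀[Γ(X, U.1)]^(q + 1) Γ(F, U.1))) :
    (D.K.d (q + 1) q).app U.1 (Theta (q + 1) (D.loc (q + 1)) (C.loc (q + 1)) l ((C.loc (q + 1) U).symm x)) =
      Theta q (D.loc q) (C.loc q) l
        ((C.loc q U).symm (dK ((KoszSh.secForm t U.1).comp (psiL F l)) q x)) := by
  rw [Theta_loc, d_app, Theta_loc, dK_map _ _ _ rfl]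

theorem d_source {U : X.affineOpens} (l : Γ(L, U.1)) (a : Γ(X, U.1))
    (ha : KoszSh.secForm s U.1 = a • (KoszSh.secForm t U.1).comp (psiL F l)) (q : ℕ)
    (x : ↥(⋀[Γ(X, U.1)]^(q + 1) Γ(F, U.1))) :
    (C.K.d (q + 1) q).app U.1 ((C.loc (q + 1) U).symm x) =
      a • (C.loc q U).symm (dK ((KoszSh.secForm t U.1).comp (psiL F l)) q x) := by
  rw [d_app, ha, ← map_smul]
  refine congrArg _ (Subtype.ext ?_)
  rw [dK_coe, Submodule.coe_smul, dK_coe]
  exact LinearMap.congr_fun (map_smul (CliffordAlgebra.contractLeft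
    (Q := (0 : QuadraticForm Γ(X, U.1) Γ(F, U.1)))) a _) _

theorem exists_stalk_rep (hL : PicF.IsInvertible L) (hF : FlatMod.IsFinLocFree F) (p : ℕ) (z : X)
    (b : ((D.K.X p).presheaf.stalk z : Type u)) :
    ∃ (U : X.affineOpens) (hz : z ∈ U.1) (l : Γ(L, U.1)), M2.IsGenerator l ∧ Module.Free Γ(X, U.1) Γ(F, U.1) ∧
      ∃ x, (D.K.X p).presheaf.germ U.1 z hz (Theta p (D.loc p) (C.loc p) l ((C.loc p U).symm x)) = b := by
  obtain ⟨U, ⟨⟨l, hl⟩, hfree⟩, hz, -, y, rfl⟩ :=
    exists_germ_good (isAffBasis_genAff_free hF hL) (D.K.X p) (show z ∈ (⊤ : X.Opens) from trivial) b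
  obtain ⟨m, rfl⟩ := (bijective_Theta hl p (D.loc p) (C.loc p)).2 y
  exact ⟨U, hz, l, hl, hfree, C.loc p U m, by rw [LinearEquiv.symm_apply_apply]⟩

theorem germ_Theta_eq_zero_iff {U : X.affineOpens} {l : Γ(L, U.1)} (hl : M2.IsGenerator l) {z : X} (hz : z ∈ U.1)
    (p : ℕ) (m : Γ(C.K.X p, U.1)) :
    (D.K.X p).presheaf.germ U.1 z hz (Theta p (D.loc p) (C.loc p) l m) = 0 ↔
      (C.K.X p).presheaf.germ U.1 z hz m = 0 := by
  have hres := fun (V : X.affineOpens) (h : V.1 ≤ U.1) =>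
    Theta_res p (D.loc p) (C.loc p) (fun U V h e => D.loc_res p U V h e) (fun U V h e => C.loc_res p U V h e) h l m
  constructor <;> intro h
  · obtain ⟨V, -, hzV, hVU, he⟩ := germ_eq_zero isAffBasis_top _ hz _ h
    rw [hres V hVU, map_eq_zero_iff _ (bijective_Theta (isGenerator_mres hl hVU) p (D.loc p) (C.loc p)).1] at he
    rw [← M1.germ_mres _ hVU hzV, he, map_zero]
  · obtain ⟨V, -, hzV, hVU, he⟩ := germ_eq_zero isAffBasis_top _ hz _ h
    rw [← M1.germ_mres _ hVU hzV, hres V hVU, he, map_zero, map_zero]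

theorem kernelSubobject_eq (hF : FlatMod.IsFinLocFree F) (hL : PicF.IsInvertible L) [Mono lam]
    (htri : KoszTw.TwistTriangle s lam t) (q : ℕ) (θ : KoszTw.CxDecData C D (q + 1)) :
    kernelSubobject (θ.iso.hom ≫ KoszTw.tensorMap (C.K.d (q + 1) q) (𝟙 (CohB1.tensorPow L (q + 1)))) =
      kernelSubobject (D.K.d (q + 1) q) := by
  have key : ∀ (z : X) (b : ((D.K.X (q + 1)).presheaf.stalk z : Type u)),
      stLin (θ.iso.hom ≫ KoszTw.tensorMap (C.K.d (q + 1) q) (𝟙 (CohB1.tensorPow L (q + 1)))) z b = 0 ↔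
        stLin (D.K.d (q + 1) q) z b = 0 := by
    intro z b
    obtain ⟨U, hz, l, hl, hfree, x, rfl⟩ := exists_stalk_rep C D hL hF (q + 1) z b
    obtain ⟨a, -, ha, hs⟩ := exists_triangle (U := U) hl (s := s) htri
    have ha' := ha inferInstance
    rw [stLin_germ, stLin_germ, d_Theta, germ_Theta_eq_zero_iff C D hl hz]
    have h1 : (θ.iso.hom ≫ KoszTw.tensorMap (C.K.d (q + 1) q) (𝟙 (CohB1.tensorPow L (q + 1)))).app U.1
        (Theta (q + 1) (D.loc (q + 1)) (C.loc (q + 1)) l ((C.loc (q + 1) U).symm x)) =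
        SecTwist.tmul _ _ U.1 (a • (C.loc q U).symm (dK ((KoszSh.secForm t U.1).comp (psiL F l)) q x))
          (lpow l (q + 1)) := by
      rw [← d_source C l a hs q x]
      show (KoszTw.tensorMap (C.K.d (q + 1) q) (𝟙 (CohB1.tensorPow L (q + 1)))).app U.1 (θ.iso.hom.app U.1 _) = _
      rw [iso_Theta (q + 1) (D.loc (q + 1)) (C.loc (q + 1)) θ l, KoszTw.tensorMap_tmul]
      rfl
    rw [h1, ← tau_germ _ _ hz (lpow l (q + 1)) rfl,
      map_eq_zero_iff _ (bijective_tau _ (isGenAt_lpow hl hz (q + 1))).1, M1.germ_smul]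
    refine ⟨fun h => ?_, fun h => by rw [h, smul_zero]⟩
    refine IsSMulRegular.right_eq_zero_of_smul ?_ h
    refine isSMulRegular_stalk (isAffBasis_genAff_free hF hL) _ hz a fun V hV hVU => ?_
    haveI := hV.2
    haveI : Module.Free Γ(X, V.1) Γ(C.K.X q, V.1) := Module.Free.of_equiv (C.loc q V).symm
    obtain ⟨a', ha1, ha2, -⟩ := exists_triangle (U := V) (isGenerator_mres hl hVU) (s := s) htri
    obtain ⟨a₀, ha0, -, -⟩ := exists_triangle (U := U) hl (s := s) htri
    have hnz : M1.ores hVU a ∈ nonZeroDivisors Γ(X, V.1) := by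
      rw [mem_nonZeroDivisors_iff_right]
      intro c hc
      refine TopCat.Presheaf.section_ext X.sheaf V.1 c 0 fun w hw => ?_
      show X.presheaf.germ V.1 w hw c = X.presheaf.germ V.1 w hw 0
      rw [map_zero]
      have e := congrArg (X.presheaf.germ V.1 w hw) hc
      rw [map_mul, map_zero, TopCat.Presheaf.germ_res_apply] at e
      exact (mul_right_mem_nonZeroDivisors_eq_zero_iff (germ_mem_nonZeroDivisors ha' (hVU hw))).1 e
    exact IsSMulRegular.of_injective (Module.Free.chooseBasis Γ(X, V.1) Γ(C.K.X q, V.1)).repr.toLinearMap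
      (Module.Free.chooseBasis Γ(X, V.1) Γ(C.K.X q, V.1)).repr.injective
      (IsSMulRegular.finsupp (isRegular_iff_mem_nonZeroDivisors.mpr hnz).left.isSMulRegular)
  exact le_antisymm (kernelSubobject_le_of_stalk _ _ fun z b => (key z b).1)
    (kernelSubobject_le_of_stalk _ _ fun z b => (key z b).2)

theorem unitorR_inv_app (M : X.Modules) (U : X.Opens) (m : Γ(M, U)) :
    (SecTwist.unitorR M).inv.app U m =
      SecTwist.tmul M (Coh.structureModule X) U m (show Γ(Coh.structureModule X, U) from (1 : Γ(X, U))) := by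
  refine (ConcreteCategory.bijective_of_isIso ((SecTwist.unitorR M).hom.app U)).1 ?_
  refine Eq.trans ?_ ((SecTwist.unitorR_tmul M U m _).trans (show (1 : Γ(X, U)) • m = m from one_smul _ m)).symm
  exact congrArg (fun φ : M ⟶ M => φ.app U m) (SecTwist.unitorR M).inv_hom_id

theorem imageSubobject_eq (hF : FlatMod.IsFinLocFree F) (hL : PicF.IsInvertible L)
    (htri : KoszTw.TwistTriangle s lam t) (q : ℕ) (θ : KoszTw.CxDecData C D q) :
    imageSubobject (KoszTw.tensorMap (KoszTw.tensorMap (C.K.d (q + 1) q) (𝟙 (CohB1.tensorPow L q))) (𝟙 L)) =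
      imageSubobject ((SecTwist.unitorR (D.K.X (q + 1))).inv ≫ KoszTw.tensorMap (D.K.d (q + 1) q) lam ≫
        KoszTw.tensorMap θ.iso.hom (𝟙 L)) := by
  have hRHS : ∀ (U : X.affineOpens) (l : Γ(L, U.1)), M2.IsGenerator l → ∀ x : ↥(⋀[Γ(X, U.1)]^(q + 1) Γ(F, U.1)),
      ((SecTwist.unitorR (D.K.X (q + 1))).inv ≫ KoszTw.tensorMap (D.K.d (q + 1) q) lam ≫
          KoszTw.tensorMap θ.iso.hom (𝟙 L)).app U.1
        (Theta (q + 1) (D.loc (q + 1)) (C.loc (q + 1)) l ((C.loc (q + 1) U).symm x)) =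
      (KoszTw.tensorMap (KoszTw.tensorMap (C.K.d (q + 1) q) (𝟙 (CohB1.tensorPow L q))) (𝟙 L)).app U.1
        (SecTwist.tmul _ _ U.1 (SecTwist.tmul _ _ U.1 ((C.loc (q + 1) U).symm x) (lpow l q)) l) := by
    intro U l hl x
    obtain ⟨a, ha, -, hs⟩ := exists_triangle (U := U) hl (s := s) htri
    show (KoszTw.tensorMap θ.iso.hom (𝟙 L)).app U.1 ((KoszTw.tensorMap (D.K.d (q + 1) q) lam).app U.1
      ((SecTwist.unitorR (D.K.X (q + 1))).inv.app U.1 _)) = _
    rw [unitorR_inv_app, KoszTw.tensorMap_tmul, KoszTw.tensorMap_tmul, KoszTw.tensorMap_tmul, KoszTw.tensorMap_tmul,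
      d_Theta, iso_Theta q (D.loc q) (C.loc q) θ l, d_source C l a hs, ha]
    refine (tmul_smul_right a _ _).trans ?_
    refine Eq.trans ?_ (congrArg (fun m => SecTwist.tmul _ _ U.1 m l) (tmul_smul_left a _ _)).symm
    exact (tmul_smul_left a _ _).symm
  refine le_antisymm (imageSubobject_le_of_stalk _ _ fun z b => ?_) (imageSubobject_le_of_stalk _ _ fun z b => ?_)
  · obtain ⟨U, ⟨l, hl⟩, hz, -⟩ := isAffBasis_genAff hL ⊤ z trivial
    obtain ⟨b', rfl⟩ := (bijective_tau _ (isGenAt_of_isGenerator hl hz)).2 b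
    obtain ⟨m, rfl⟩ := (bijective_tau _ (isGenAt_lpow hl hz q)).2 b'
    obtain ⟨V, -, hzV, hVU, y, rfl⟩ := exists_germ_good isAffBasis_top _ hz m
    refine ⟨(D.K.X (q + 1)).presheaf.germ V.1 z hzV
      (Theta (q + 1) (D.loc (q + 1)) (C.loc (q + 1)) (M1.mres L hVU l) y), ?_⟩
    have hy : y = (C.loc (q + 1) V).symm (C.loc (q + 1) V y) := (LinearEquiv.symm_apply_apply _ _).symm
    rw [stLin_germ, hy, hRHS V _ (isGenerator_mres hl hVU), ← stLin_germ _ hzV,
      tau_germ _ _ hzV (lpow (M1.mres L hVU l) q) (by rw [← lpow_mres, M1.germ_mres]),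
      tau_germ _ _ hzV (M1.mres L hVU l) (M1.germ_mres L hVU hzV l)]
  · obtain ⟨U, hz, l, hl, -, x, rfl⟩ := exists_stalk_rep C D hL hF (q + 1) z b
    exact ⟨(CohB1.tensorMod _ _).presheaf.germ U.1 z hz
      (SecTwist.tmul _ _ U.1 (SecTwist.tmul _ _ U.1 ((C.loc (q + 1) U).symm x) (lpow l q)) l),
      by rw [stLin_germ, stLin_germ, hRHS U l hl x]⟩

theorem extPow_twist {E M N : X.Modules} (hL : PicF.IsInvertible L) (k : ℕ)
    (hM : ExtPow.IsExtPow k (CohB1.tensorMod E L) M) (hN : ExtPow.IsExtPow k E N) :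
    Nonempty (M ≅ CohB1.tensorMod N (CohB1.tensorPow L k)) := by
  obtain ⟨locP, hlocP⟩ := hM
  obtain ⟨locQ, hlocQ⟩ := hN
  have hP := isAffBasis_genAff hL
  let e : ∀ U : X.affineOpens, GenAff L U → (Γ(N, U.1) ≃ₗ[Γ(X, U.1)] Γ(M, U.1)) :=
    fun U hU => LinearEquiv.ofBijective _ (bijective_Theta hU.choose_spec k locP locQ)
  let f : ∀ U : X.affineOpens, GenAff L U →
      (Γ(M, U.1) →+ Γ(CohB1.tensorMod N (CohB1.tensorPow L k), U.1)) :=
    fun U hU => AddMonoidHom.mk' (fun y => SecTwist.tmul _ _ U.1 ((e U hU).symm y) (lpow hU.choose k))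
      fun y y' => by rw [map_add]; exact tmul_add_left _ _ _
  have key : ∀ U hU (l : Γ(L, U.1)) (_ : M2.IsGenerator l) (m : Γ(N, U.1)),
      f U hU (Theta k locP locQ l m) = SecTwist.tmul _ _ U.1 m (lpow l k) := by
    intro U hU l hl m
    set l₀ := hU.choose
    have hl₀ : M2.IsGenerator l₀ := hU.choose_spec
    obtain ⟨c, hc⟩ := (hl₀ U.1 le_rfl).2 l
    rw [show M2.res L le_rfl l₀ = l₀ from M1.mres_id L _ l₀] at hc
    change c • l₀ = l at hc
    subst hc
    show SecTwist.tmul _ _ U.1 ((e U hU).symm (Theta k locP locQ (c • l₀) m)) (lpow l₀ k) = _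
    rw [Theta_smul, lpow_smul, ← map_smul,
      show (e U hU).symm (Theta k locP locQ l₀ (c ^ k • m)) = c ^ k • m from (e U hU).symm_apply_apply _]
    exact (tmul_smul_left _ _ _).trans (tmul_smul_right _ _ _).symm
  have hres : ∀ {V W : X.affineOpens} (h : W.1 ≤ V.1) (l : Γ(L, V.1)) (m : Γ(N, V.1)),
      M1.mres M h (Theta k locP locQ l m) = Theta k locP locQ (M1.mres L h l) (M1.mres N h m) := fun h l m =>
    Theta_res k locP locQ (fun U V h e => hlocP U V h e) (fun U V h e => hlocQ U V h e) h l m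
  obtain ⟨Ω, hΩ⟩ := exists_glue hP f (fun U hU r y => by
      show SecTwist.tmul _ _ U.1 ((e U hU).symm (r • y)) _ = _
      rw [map_smul]
      exact tmul_smul_left r _ _)
    (fun V hV W hW h y => by
      obtain ⟨m, rfl⟩ := (e V hV).surjective y
      have hl := hV.choose_spec
      show M1.mres _ h (f V hV (Theta k locP locQ _ m)) = f W hW (M1.mres _ h (Theta k locP locQ _ m))
      rw [key V hV _ hl, hres h, key W hW _ (isGenerator_mres hl h), mres_tmul, lpow_mres h _ k])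
  have : IsIso Ω := by
    rw [M1.isIso_iff_stalk]
    intro z
    show Function.Bijective (stLin Ω z)
    refine ⟨(injective_iff_map_eq_zero _).2 fun a ha => ?_, fun b => ?_⟩
    · obtain ⟨V, hV, hzV, -, y, rfl⟩ := exists_germ_good hP _ (show z ∈ (⊤ : X.Opens) from trivial) a
      obtain ⟨m, rfl⟩ := (e V hV).surjective y
      rw [stLin_germ, hΩ V hV, show f V hV ((e V hV) m) = SecTwist.tmul _ _ V.1 m (lpow hV.choose k) from
        key V hV _ hV.choose_spec m, ← tau_germ _ _ hzV (lpow hV.choose k) rfl] at ha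
      have hm := (bijective_tau _ (isGenAt_lpow hV.choose_spec hzV k)).1 (ha.trans (map_zero _).symm)
      obtain ⟨W, -, hzW, hWV, he⟩ := germ_eq_zero hP _ hzV m hm
      rw [← M1.germ_mres _ hWV hzW, show M1.mres M hWV ((e V hV) m) = _ from hres hWV hV.choose m, he, map_zero,
        map_zero]
    · obtain ⟨V, ⟨l, hl⟩, hzV, -⟩ := hP ⊤ z trivial
      obtain ⟨m, rfl⟩ := (bijective_tau _ (isGenAt_lpow hl hzV k)).2 b
      obtain ⟨W, hW, hzW, hWV, y, rfl⟩ := exists_germ_good hP _ hzV m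
      refine ⟨M.presheaf.germ W.1 z hzW (Theta k locP locQ (M1.mres L hWV l) y), ?_⟩
      rw [stLin_germ, hΩ W hW, key W hW _ (isGenerator_mres hl hWV),
        tau_germ _ _ hzW (lpow (M1.mres L hWV l) k) (by rw [← lpow_mres, M1.germ_mres])]
  exact ⟨asIso Ω⟩

end Groth.Agent.KoszShH13
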