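import Groth.Agent.Lib.KoszShH13.Copies

/-! Restriction to a divisor of twisted cycles. -/

set_option autoImplicit false
set_option backward.isDefEq.respectTransparency false
set_option backward.isDefEq.respectTransparency.types false

universe u

open CategoryTheory Limits AlgebraicGeometry Opposite TopologicalSpace

namespace Groth.Agent.KoszShH13

variable {X : Scheme.{u}}

theorem iso_of_same_kernel {A B B' : X.Modules} (f : A ⟶ B) (g : A ⟶ B') [Epi f] [Epi g]
    (h : ∀ (z : X) (a : (A.presheaf.stalk z : Type u)), stLin f z a = 0 ↔ stLin g z a = 0) :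
    Nonempty (B ≅ B') := by
  have aux : ∀ {P Q : X.Modules} (u : A ⟶ P) (v : A ⟶ Q),
      (∀ (z : X) (a : (A.presheaf.stalk z : Type u)), stLin u z a = 0 → stLin v z a = 0) → kernel.ι u ≫ v = 0 := by
    intro P Q u v huv
    refine hom_ext_basis isAffBasis_top fun V _ a => M1.section_ext _ _ fun z hz => ?_
    rw [← stLin_germ _ hz, ← stLin_germ _ hz, stLin_zero, stLin_comp]
    exact huv z _ (by rw [← stLin_comp, kernel.condition, stLin_zero])
  have h1 := aux f g fun z a => (h z a).1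
  have h2 := aux g f fun z a => (h z a).2
  exact ⟨{
    hom := Abelian.epiDesc f g h1
    inv := Abelian.epiDesc g f h2
    hom_inv_id := by rw [← cancel_epi f, Abelian.comp_epiDesc_assoc, Abelian.comp_epiDesc, Category.comp_id]
    inv_hom_id := by rw [← cancel_epi g, Abelian.comp_epiDesc_assoc, Abelian.comp_epiDesc, Category.comp_id] }⟩

variable {ID : X.IdealSheafData} (hD : IsAffBasis (GenI ID))

include hD in
theorem epi_unitD (M : X.Modules) : Epi (unitD ID M) := by
  rw [M1.epi_iff_stalk]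
  intro z
  obtain ⟨U, ⟨g, hg⟩, hz, -⟩ := hD ⊤ z trivial
  exact (unitD_stalk ID M U g hg.2 hz).1

include hD in
/-- the projection formula for an invertible ideal power -/
theorem restrict_tensor_iso {I : X.IdealSheafData} (hI : IsAffBasis (GenI I)) (M : X.Modules) (q : ℕ) :
    Nonempty ((Scheme.Modules.pullback ID.subschemeι ⋙ Scheme.Modules.pushforward ID.subschemeι).obj
        (CohB1.tensorMod M (CohB1.tensorPow (ClSub.idealMod I) q)) ≅
      CohB1.tensorMod ((Scheme.Modules.pullback ID.subschemeι ⋙ Scheme.Modules.pushforward ID.subschemeι).obj M)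
        (CohB1.tensorPow (ClSub.idealMod I) q)) := by
  set N := CohB1.tensorPow (ClSub.idealMod I) q
  let v := KoszTw.tensorMap (unitD ID M) (𝟙 N)
  have := epi_unitD hD (CohB1.tensorMod M N)
  have : Epi v := by
    rw [M1.epi_iff_stalk]
    intro z
    show Function.Surjective (stLin v z)
    intro b
    obtain ⟨U, ⟨g, hg⟩, hz, -⟩ := hI ⊤ z trivial
    obtain ⟨V, ⟨t, ht⟩, hzV, -⟩ := hD ⊤ z trivial
    obtain ⟨m, rfl⟩ := (bijective_tau _ (isGenAt_powGen I hg hz q)).2 b
    obtain ⟨m', rfl⟩ := (unitD_stalk ID M V t ht.2 hzV).1 m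
    exact ⟨_, stLin_tau (unitD ID M) hz _ rfl m'⟩
  refine iso_of_same_kernel (unitD ID (CohB1.tensorMod M N)) v fun z a => ?_
  obtain ⟨U, ⟨g, hg⟩, hz, -⟩ := hI ⊤ z trivial
  obtain ⟨V, ⟨t, ht⟩, hzV, -⟩ := hD ⊤ z trivial
  have hb := bijective_tau M (isGenAt_powGen I hg hz q)
  obtain ⟨m, rfl⟩ := hb.2 a
  rw [(unitD_stalk ID _ V t ht.2 hzV).2, stLin_tau (unitD ID M) hz _ rfl,
    map_eq_zero_iff _ (bijective_tau _ (isGenAt_powGen I hg hz q)).1, (unitD_stalk ID _ V t ht.2 hzV).2]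
  constructor
  · rintro ⟨b, hb'⟩
    obtain ⟨m', rfl⟩ := hb.2 b
    exact ⟨m', hb.1 (by rw [map_smul]; exact hb')⟩
  · rintro ⟨m', rfl⟩
    exact ⟨_, (map_smul _ _ _).symm⟩

theorem copies_main {n : ℕ} (I : X.IdealSheafData) (hI : BlowUp.IsEffCartierIdeal I)
    (hD' : BlowUp.IsEffCartierIdeal ID)
    (C : KoszSh.Cx (ESum (cst (n := n) I)) (sSum (cst (n := n) I)))
    (CD : KoszSh.Cx (ESum (cst (n := n) ID)) (sSum (cst (n := n) ID))) (q : ℕ) (L : X.Modules)
    (hL : ExtPow.IsExtPow q (FlatMod.freeMod X (n - 1)) L) :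
    Nonempty (C.K.cycles q ≅ CohB1.tensorMod L (CohB1.tensorPow (ClSub.idealMod I) q)) ∧
    (1 ≤ n → Nonempty (
      (Scheme.Modules.pullback ID.subschemeι ⋙ Scheme.Modules.pushforward ID.subschemeι).obj
          (CohB1.tensorMod (C.K.cycles q) (CohB1.tensorPow (ClSub.idealMod ID) q)) ≅
        CohB1.tensorMod (CD.K.homology q) (CohB1.tensorPow (ClSub.idealMod I) q))) := by
  have hBI := isAffBasis_genI hI
  have hBD := isAffBasis_genI hD'
  refine ⟨cycles_iso hBI C q hL, fun hn => ?_⟩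
  obtain ⟨e1⟩ := cycles_iso hBI C q hL
  obtain ⟨e2⟩ := cycles_iso hBD CD q hL
  have := epi_unitD hBD (CD.K.cycles q)
  obtain ⟨e3⟩ := iso_of_same_kernel (unitD ID (CD.K.cycles q)) (CD.K.homologyπ q) fun z a => by
    obtain ⟨U, ⟨g, hg⟩, hz, -⟩ := hBD ⊤ z trivial
    rw [(unitD_stalk ID _ U g hg.2 hz).2, stLin_homologyπ_eq_zero_iff hBD CD q hn hL hg hz]
  obtain ⟨e4⟩ := restrict_tensor_iso hBD hBI (CD.K.cycles q) q
  set A := CohB1.tensorPow (ClSub.idealMod I) q
  set B := CohB1.tensorPow (ClSub.idealMod ID) q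
  let e5 : CohB1.tensorMod (C.K.cycles q) B ≅ CohB1.tensorMod (CD.K.cycles q) A :=
    M2.tensorIso e1 (Iso.refl B) ≪≫ M2.tensorAssoc L A B ≪≫ M2.tensorIso (Iso.refl L) (M2.tensorComm A B) ≪≫
      (M2.tensorAssoc L B A).symm ≪≫ M2.tensorIso e2.symm (Iso.refl A)
  exact ⟨(Scheme.Modules.pullback ID.subschemeι ⋙ Scheme.Modules.pushforward ID.subschemeι).mapIso e5 ≪≫ e4 ≪≫
    M2.tensorIso e3 (Iso.refl A)⟩

end Groth.Agent.KoszShH13
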