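import Groth.Agent.Lib.KoszShH13.Main
import Groth.Agent.Lib.KoszShH13.TReg
import Groth.Prelude.Def_RegImm
import Mathlib.RingTheory.Regular.Flat
import Mathlib.RingTheory.Localization.Ideal

/-! Divisors containing no component of a complete intersection are regular on Koszul homology. -/

set_option autoImplicit false
set_option backward.isDefEq.respectTransparency false
set_option backward.isDefEq.respectTransparency.types false

universe u

open CategoryTheory Limits AlgebraicGeometry Opposite TopologicalSpace exteriorPower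

namespace Groth.Agent.KoszShH13

variable {X : Scheme.{u}}

/-- on `U` the ideal is generated by a weakly regular sequence -/
def LciAff (J : X.IdealSheafData) (U : X.affineOpens) : Prop :=
  ∃ rs : List Γ(X, U.1), RingTheory.Sequence.IsWeaklyRegular Γ(X, U.1) rs ∧ J.ideal U = Ideal.ofList rs

theorem mem_range_subscheme_of_ideal_le (J : X.IdealSheafData) {U : X.affineOpens} {z : X} (hz : z ∈ U.1)
    (h : J.ideal U ≤ (U.2.primeIdealOf ⟨z, hz⟩).asIdeal) : z ∈ Set.range J.subschemeι := by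
  rw [J.range_subschemeι]
  show z ∈ J.support
  rw [Scheme.IdealSheafData.mem_support_iff_of_mem (U := U) hz, Scheme.mem_zeroLocus_iff]
  intro b hb hzb
  exact (M1.isUnit_germ_iff U.2 hz b).1 ((X.mem_basicOpen _ z hz).1 hzb) (h hb)

theorem isAffBasis_lci {n : ℕ} (IY : Fin n → X.IdealSheafData) {ID : X.IdealSheafData}
    (hP : IsAffBasis (GoodAff IY ID))
    (hZ : RegImm.IsRegularImmersion RegImm.Kind.regular (⨆ i, IY i).subschemeι) :
    IsAffBasis fun W => GoodAff IY ID W ∧ LciAff (⨆ i, IY i) W := by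
  intro O x hx
  set J := ⨆ i, IY i
  have res : ∀ {V W : X.affineOpens}, W.1 ≤ V.1 → GoodAff IY ID V → GoodAff IY ID W := fun {V W} h hV =>
    ⟨⟨_, IsGen.res h hV.1.choose_spec⟩, fun i => ⟨_, IsGen.res h (hV.2 i).choose_spec⟩⟩
  by_cases hxZ : x ∈ Set.range J.subschemeι
  · obtain ⟨z, rfl⟩ := hxZ
    obtain ⟨U, hzU, -, rs, hrs, hker⟩ := hZ.2 z
    have hJU : J.ideal U = Ideal.ofList rs := by
      rw [← hker, ← Scheme.Hom.ker_apply, J.ker_subschemeι]
    obtain ⟨V, hV, hzV, hVO⟩ := hP (O ⊓ U.1) _ ⟨hx, hzU⟩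
    obtain ⟨r, hrV, hzr⟩ := U.2.exists_basicOpen_le (V := V.1) ⟨_, hzV⟩ hzU
    refine ⟨⟨X.basicOpen r, U.2.basicOpen r⟩, ⟨res hrV hV, ?_⟩, hzr, hrV.trans (hVO.trans inf_le_left)⟩
    letI : Algebra Γ(X, U.1) Γ(X, X.basicOpen r) := (M1.ores (X.basicOpen_le r)).hom.toAlgebra
    haveI : IsLocalization.Away r Γ(X, X.basicOpen r) := U.2.isLocalization_basicOpen r
    refine ⟨_, hrs.toIsWeaklyRegular.of_isLocalization Γ(X, X.basicOpen r) (Submonoid.powers r), ?_⟩
    rw [← J.map_ideal (U := ⟨X.basicOpen r, U.2.basicOpen r⟩) (X.basicOpen_le r), hJU, Ideal.map_ofList]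
    rfl
  · obtain ⟨V, hV, hxV, hVO⟩ := hP O x hx
    have hsupp : x ∉ J.support := fun h => hxZ (J.range_subschemeι ▸ h)
    rw [Scheme.IdealSheafData.mem_support_iff_of_mem (U := V) hxV, Scheme.mem_zeroLocus_iff] at hsupp
    push Not at hsupp
    obtain ⟨b, hb, hxb⟩ := hsupp
    refine ⟨⟨X.basicOpen b, V.2.basicOpen b⟩, ⟨res (X.basicOpen_le b) hV, [1], ?_, ?_⟩, hxb,
      (X.basicOpen_le b).trans hVO⟩
    · rw [RingTheory.Sequence.isWeaklyRegular_singleton_iff]
      exact IsSMulRegular.one _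
    · rw [Ideal.ofList_singleton, Ideal.span_singleton_one, Ideal.eq_top_iff_one,
        ← J.map_ideal (U := ⟨X.basicOpen b, V.2.basicOpen b⟩) (X.basicOpen_le b)]
      obtain ⟨v, hv⟩ := RingedSpace.isUnit_res_basicOpen X.toRingedSpace b
      have hmem := Ideal.mem_map_of_mem (X.presheaf.map (homOfLE (X.basicOpen_le b)).op).hom hb
      exact (Ideal.eq_top_iff_one _).1 (Ideal.eq_top_of_isUnit_mem _ hmem (hv ▸ v.isUnit))

variable {n : ℕ} {IY : Fin n → X.IdealSheafData} {ID : X.IdealSheafData}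

theorem range_secForm {U : X.affineOpens} :
    LinearMap.range (KoszSh.secForm (sSum IY) U.1) = (⨆ i, IY i).ideal U := by
  rw [Scheme.IdealSheafData.ideal_iSup, iSup_apply]
  refine le_antisymm ?_ (iSup_le fun i v hv => ?_)
  · rintro _ ⟨e, rfl⟩
    rw [secForm_eq_sum]
    exact sum_mem fun i _ => Submodule.mem_iSup_of_mem i (co_mem IY U i e)
  · obtain ⟨e, he⟩ := exists_co IY U (fun j => if j = i then v else 0) fun j => by
      split_ifs with h
      · exact h ▸ hv
      · exact zero_mem _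
    refine ⟨e, ?_⟩
    rw [secForm_eq_sum, Finset.sum_congr rfl fun j _ => he j]
    simp

theorem regular_mod (hreg : ∀ x : X, IsRegularLocalRing (X.presheaf.stalk x)) {J : X.IdealSheafData}
    (hZD : ∀ z : ↥J.subscheme, ringKrullDim (J.subscheme.presheaf.stalk z) = 0 →
      J.subschemeι.base z ∉ Set.range ID.subschemeι.base)
    {W : X.affineOpens} {rs : List Γ(X, W.1)} (hrs : RingTheory.Sequence.IsWeaklyRegular Γ(X, W.1) rs)
    (hJ : J.ideal W = Ideal.ofList rs) (g : Γ(X, W.1)) (hg : ID.ideal W = Ideal.span {g})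
    (c : Γ(X, W.1)) (hc : g * c ∈ Ideal.ofList rs) : c ∈ Ideal.ofList rs := by
  let K : Ideal Γ(X, W.1) := (Ideal.ofList rs).colon {c}
  suffices K = ⊤ by
    have h1 : (1 : Γ(X, W.1)) ∈ K := this ▸ Submodule.mem_top
    simpa [K, Submodule.mem_colon_singleton] using h1
  by_contra hK
  obtain ⟨P, hP, hKP⟩ := Ideal.exists_le_maximal K hK
  let z := W.2.fromSpec ⟨P, hP.isPrime⟩
  have hzW : z ∈ W.1 := (W.2.range_fromSpec).le ⟨_, rfl⟩
  have hPz : (W.2.primeIdealOf ⟨z, hzW⟩).asIdeal = P := by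
    rw [W.2.fromSpec.isOpenEmbedding.injective (W.2.fromSpec_primeIdealOf ⟨z, hzW⟩)]
  let := TopCat.Presheaf.algebra_section_stalk X.presheaf (⟨z, hzW⟩ : W.1)
  have := W.2.isLocalization_stalk ⟨z, hzW⟩
  haveI := hreg z
  set M := (W.2.primeIdealOf ⟨z, hzW⟩).asIdeal.primeCompl
  let R := X.presheaf.stalk z
  suffices algebraMap Γ(X, W.1) R c ∈ (Ideal.ofList rs).map (algebraMap Γ(X, W.1) R) by
    obtain ⟨m, hm, hmc⟩ := (IsLocalization.algebraMap_mem_map_algebraMap_iff M R _ _).1 this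
    have hmK : m ∈ K := by simpa [K, Submodule.mem_colon_singleton] using hmc
    exact hm (hPz.symm ▸ hKP hmK)
  rw [Ideal.map_ofList]
  by_cases htop : Ideal.ofList (rs.map (algebraMap Γ(X, W.1) R)) = ⊤
  · rw [htop]; exact Submodule.mem_top
  refine quotient_regular_of_forall_minimalPrimes (hrs.of_isLocalization R M)
    (fun r hr => IsLocalRing.le_maximalIdeal htop (Ideal.subset_span hr))
    (t := algebraMap Γ(X, W.1) R g) (fun p hp htp => ?_) _ ?_
  swap
  · rw [← map_mul, ← Ideal.map_ofList]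
    exact Ideal.mem_map_of_mem _ hc
  rw [← Ideal.map_ofList] at hp
  haveI := hp.1.1
  let q : Ideal Γ(X, W.1) := p.comap (algebraMap Γ(X, W.1) R)
  have hJq : J.ideal W ≤ q := hJ ▸ Ideal.map_le_iff_le_comap.1 hp.1.2
  let z' := W.2.fromSpec ⟨q, Ideal.IsPrime.comap _⟩
  have hzW' : z' ∈ W.1 := (W.2.range_fromSpec).le ⟨_, rfl⟩
  have hqz : (W.2.primeIdealOf ⟨z', hzW'⟩).asIdeal = q := by
    rw [W.2.fromSpec.isOpenEmbedding.injective (W.2.fromSpec_primeIdealOf ⟨z', hzW'⟩)]
  obtain ⟨w, hw⟩ := mem_range_subscheme_of_ideal_le J hzW' (hqz.symm ▸ hJq)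
  have hDz : z' ∈ Set.range ID.subschemeι := by
    refine mem_range_subscheme_of_ideal_le ID hzW' (hqz.symm ▸ ?_)
    rw [hg, Ideal.span_le, Set.singleton_subset_iff]
    exact htp
  refine hZD w ?_ (hw.symm ▸ hDz)
  haveI : Ring.KrullDimLE 0 (J.subscheme.presheaf.stalk w) := Ring.KrullDimLE.mk₀ fun Q hQ => by
    let i := J.subschemeι
    have hwW : i w ∈ W.1 := hw ▸ hzW'
    let := TopCat.Presheaf.algebra_section_stalk X.presheaf (⟨i w, hwW⟩ : W.1)
    have := W.2.isLocalization_stalk ⟨i w, hwW⟩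
    let φ := (i.stalkMap w).hom
    let Q' : Ideal (X.presheaf.stalk (i w)) := Q.comap φ
    haveI : Q'.IsPrime := Ideal.IsPrime.comap φ
    let q' : Ideal Γ(X, W.1) := Q'.comap (algebraMap Γ(X, W.1) (X.presheaf.stalk (i w)))
    haveI : q'.IsPrime := Ideal.IsPrime.comap _
    have hJq' : J.ideal W ≤ q' := fun a ha => by
      rw [← J.ker_subschemeι, Scheme.Hom.ker_apply, RingHom.mem_ker] at ha
      show φ (X.presheaf.germ W.1 (i w) hwW a) ∈ Q
      rw [show φ (X.presheaf.germ W.1 (i w) hwW a) = i.stalkMap w (X.presheaf.germ W.1 (i w) hwW a) from rfl,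
        Scheme.Hom.germ_stalkMap_apply, ha, map_zero]
      exact zero_mem _
    have hq'z : q' ≤ (W.2.primeIdealOf ⟨i w, hwW⟩).asIdeal := fun a ha => by
      by_contra hna
      exact Ideal.IsPrime.ne_top inferInstance (Ideal.eq_top_of_isUnit_mem Q' ha
        (IsLocalization.map_units (X.presheaf.stalk (i w)) (⟨a, hna⟩ : (W.2.primeIdealOf ⟨i w, hwW⟩).asIdeal.primeCompl)))
    have hiq : (W.2.primeIdealOf ⟨i w, hwW⟩).asIdeal = q := by
      rw [show (⟨i w, hwW⟩ : W.1) = ⟨z', hzW'⟩ from Subtype.ext hw, hqz]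
    rw [hiq] at hq'z
    have hq'P : q' ≤ (W.2.primeIdealOf ⟨z, hzW⟩).asIdeal := hq'z.trans fun a ha => by
      by_contra hna
      exact Ideal.IsPrime.ne_top inferInstance (Ideal.eq_top_of_isUnit_mem p ha
        (IsLocalization.map_units R (⟨a, hna⟩ : M)))
    have hdisj : Disjoint (M : Set Γ(X, W.1)) q' := Set.disjoint_left.2 fun a ha ha' => ha (hq'P ha')
    haveI := IsLocalization.isPrime_of_isPrime_disjoint M R q' inferInstance hdisj
    have hpq : p ≤ q'.map (algebraMap Γ(X, W.1) R) := hp.2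
      ⟨inferInstance, Ideal.map_mono (hJ ▸ hJq')⟩
      ((Ideal.map_mono hq'z).trans Ideal.map_comap_le)
    have hqq' : q ≤ q' := (Ideal.comap_mono hpq).trans
      (IsLocalization.comap_map_of_isPrime_disjoint M R inferInstance hdisj).le
    have hQ' : Q' = IsLocalRing.maximalIdeal (X.presheaf.stalk (i w)) := by
      refine le_antisymm (IsLocalRing.le_maximalIdeal (Ideal.IsPrime.ne_top inferInstance)) fun a ha => ?_
      obtain ⟨⟨b, s⟩, hb⟩ := IsLocalization.surj (W.2.primeIdealOf ⟨i w, hwW⟩).asIdeal.primeCompl a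
      have hb1 : algebraMap Γ(X, W.1) (X.presheaf.stalk (i w)) b ∈ IsLocalRing.maximalIdeal _ :=
        hb ▸ Ideal.mul_mem_right _ _ ha
      have hbq : b ∈ q := by
        by_contra hnb
        exact hb1 (IsLocalization.map_units _ (⟨b, show b ∉ (W.2.primeIdealOf ⟨i w, hwW⟩).asIdeal by rw [hiq]; exact hnb⟩ :
          (W.2.primeIdealOf ⟨i w, hwW⟩).asIdeal.primeCompl))
      have hb2 : a * algebraMap _ _ (s : Γ(X, W.1)) ∈ Q' := hb ▸ hqq' hbq
      exact ((Ideal.IsPrime.mem_or_mem inferInstance hb2).resolve_right fun hs =>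
        Ideal.IsPrime.ne_top inferInstance (Ideal.eq_top_of_isUnit_mem Q' hs (IsLocalization.map_units _ s)))
    have hQmax : Q = IsLocalRing.maximalIdeal _ := by
      refine le_antisymm (IsLocalRing.le_maximalIdeal hQ.ne_top) fun a ha => ?_
      obtain ⟨b, rfl⟩ := i.stalkMap_surjective w a
      exact (show b ∈ Q' from hQ'.ge fun hu => ha (hu.map φ))
    rw [hQmax]
    infer_instance
  exact ringKrullDimZero_iff_ringKrullDim_eq_zero.1 inferInstance

theorem hreg_of_lci (hP : IsAffBasis (GoodAff IY ID))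
    (hsm : ∀ x : X, IsRegularLocalRing (X.presheaf.stalk x))
    (hZ : RegImm.IsRegularImmersion RegImm.Kind.regular (⨆ i, IY i).subschemeι)
    (hZD : ∀ z : ↥(⨆ i, IY i).subscheme, ringKrullDim ((⨆ i, IY i).subscheme.presheaf.stalk z) = 0 →
      (⨆ i, IY i).subschemeι.base z ∉ Set.range ID.subschemeι.base)
    (C : KoszSh.Cx (ESum IY) (sSum IY)) (q : ℕ)
    (U : X.affineOpens) (x : Γ(X, U.1)) (hx : x ∈ nonZeroDivisors Γ(X, U.1)) (hxU : ID.ideal U = Ideal.span {x}) :
    IsSMulRegular Γ(C.K.homology q, U.1) x := by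
  have hP' := isAffBasis_lci IY hP hZ
  have key : ∀ (W : X.affineOpens), GoodAff IY ID W ∧ LciAff (⨆ i, IY i) W → ∀ hWU : W.1 ≤ U.1,
      ∀ m : Γ(C.K.X q, W.1), (∀ j, (C.K.d q j).app W.1 m = 0) → ∀ y : Γ(C.K.X (q + 1), W.1),
        (C.K.d (q + 1) q).app W.1 y = M1.ores hWU x • m → ∃ y', (C.K.d (q + 1) q).app W.1 y' = m := by
    rintro W ⟨hW, rs, hrs, hJ⟩ hWU m hm y hy
    have hg : IsGen ID W (M1.ores hWU x) := IsGen.res hWU ⟨hx, hxU⟩
    have := free_ESum hW.2
    have hrange : LinearMap.range (KoszSh.secForm (sSum IY) W.1) = Ideal.ofList rs := range_secForm.trans hJ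
    obtain ⟨b⟩ := exists_basis_ESum hW.2
    have hT : TReg (M1.ores hWU x) (KoszSh.secForm (sSum IY) W.1) :=
      treg_of_range_eq b _ rs hrs hrange fun c hc => regular_mod hsm hZD hrs hJ _ hg.2 c hc
    obtain ⟨m', rfl⟩ := (C.loc q W).symm.surjective m
    obtain ⟨y', rfl⟩ := (C.loc (q + 1) W).symm.surjective y
    rw [d_app, ← map_smul] at hy
    have hy' := (C.loc q W).symm.injective hy
    obtain ⟨v, hv⟩ : ∃ v, dK (KoszSh.secForm (sSum IY) W.1) q v = m' := by
      cases q with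
      | zero => exact hT.2 m' y' hy'
      | succ k =>
        have h0 := hm k
        rw [d_app, map_eq_zero_iff _ (C.loc k W).symm.injective] at h0
        exact hT.1 k m' h0 y' hy'
    exact ⟨(C.loc (q + 1) W).symm v, by rw [d_app, hv]⟩
  refine isSMulRegular_iff_right_eq_zero_of_smul.mpr fun s hs => ?_
  refine M1.section_ext _ _ fun z hz => ?_
  rw [map_zero]
  have hth : X.presheaf.germ U.1 z hz x • (C.K.homology q).presheaf.germ U.1 z hz s = 0 := by
    rw [← M1.germ_smul, hs, map_zero]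
  obtain ⟨z1, hz1⟩ : ∃ z1, stLin (C.K.homologyπ q) z z1 = (C.K.homology q).presheaf.germ U.1 z hz s :=
    (M1.epi_iff_stalk _).1 inferInstance z _
  rw [← hz1, ← map_smul] at hth
  obtain ⟨y, hy⟩ := stLin_exact (ShortComplex.exact_of_g_is_cokernel
    (ShortComplex.mk _ _ (C.K.toCycles_comp_homologyπ (q + 1) q)) (C.K.homologyIsCokernel (q + 1) q (by simp)))
    z _ hth
  set m := stLin (C.K.iCycles q) z z1 with hm
  have hy1 : stLin (C.K.d (q + 1) q) z y = X.presheaf.germ U.1 z hz x • m := by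
    rw [hm, ← map_smul, ← hy, ← C.K.toCycles_i (q + 1) q, stLin_comp]
  obtain ⟨V, -, hzV, hVU, m', hm'⟩ := exists_germ_good hP' (C.K.X q) hz m
  obtain ⟨V', -, hzV', hV'V, y', hy'⟩ := exists_germ_good hP' (C.K.X (q + 1)) hzV y
  let j := (ComplexShape.down ℕ).next q
  have hd : (C.K.X j).presheaf.germ V'.1 z hzV' ((C.K.d q j).app V'.1 (M1.mres _ hV'V m')) = 0 := by
    rw [← stLin_germ _ hzV', M1.germ_mres _ hV'V hzV', hm', hm, ← stLin_comp, C.K.iCycles_d, stLin_zero]
  obtain ⟨V'', -, hzV'', hV'', hd''⟩ := germ_eq_zero hP' _ hzV' _ hd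
  have hdy : (C.K.X q).presheaf.germ V''.1 z hzV'' ((C.K.d (q + 1) q).app V''.1 (M1.mres _ hV'' y') -
      M1.ores (hV''.trans (hV'V.trans hVU)) x • M1.mres _ (hV''.trans hV'V) m') = 0 := by
    rw [map_sub, M1.germ_smul, ← stLin_germ _ hzV'', M1.germ_mres _ hV'' hzV'', hy', M1.germ_mres _ (hV''.trans hV'V) hzV'',
      hm', hy1, sub_eq_zero]
    congr 1
    exact (TopCat.Presheaf.germ_res_apply X.presheaf _ _ _ _).symm
  obtain ⟨W, hW, hzW, hWV, hW0⟩ := germ_eq_zero hP' _ hzV'' _ hdy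
  rw [map_sub, M1.mres_smul, sub_eq_zero, ← M1.map_app_eq, M1.mres_mres, M1.ores_ores, M1.mres_mres] at hW0
  obtain ⟨v, hv⟩ := key W hW _ _ (fun j' => by
    by_cases hj : j' = j
    · subst hj
      rw [← M1.mres_mres _ hV'V (hWV.trans hV''), M1.map_app_eq, ← M1.mres_mres _ hV'' hWV, hd'', map_zero]
    · rw [C.K.shape q j' fun hr => hj ((ComplexShape.next_eq' _ hr).symm)]
      rfl) _ hW0
  have hzc : z1 = stLin (C.K.toCycles (q + 1) q) z ((C.K.X (q + 1)).presheaf.germ W.1 z hzW v) := by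
    apply injective_stLin_of_mono (C.K.iCycles q) z
    rw [← hm, ← stLin_comp, C.K.toCycles_i, stLin_germ, hv, M1.germ_mres _ _ hzW, hm']
  rw [← hz1, hzc, ← stLin_comp, C.K.toCycles_comp_homologyπ, stLin_zero]

end Groth.Agent.KoszShH13
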