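import Groth.Agent.Lib.KoszShH13.Cx
import Groth.Agent.Lib.SymAlg11.Sheaf
import Mathlib.RingTheory.TensorProduct.IsBaseChangeFree
import Mathlib.RingTheory.Regular.Flat

/-! Regular bases restrict to basic opens. -/

set_option autoImplicit false
set_option backward.isDefEq.respectTransparency false
set_option backward.isDefEq.respectTransparency.types false

universe u

open CategoryTheory Limits AlgebraicGeometry Opposite TopologicalSpace

namespace Groth.Agent.KoszShH13

variable {X : Scheme.{u}} {E : X.Modules} (s : E ⟶ Coh.structureModule X) {n : ℕ}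

/-- `U` carries a basis sent to a regular sequence -/
def HasRegBasis (n : ℕ) (U : X.affineOpens) : Prop :=
  ∃ b : Module.Basis (Fin n) Γ(X, U.1) Γ(E, U.1),
    RingTheory.Sequence.IsWeaklyRegular Γ(X, U.1) (List.ofFn fun k => KoszSh.secForm s U.1 (b k))

theorem secForm_mres {U V : X.Opens} (h : V ≤ U) (e : Γ(E, U)) :
    KoszSh.secForm s V (M1.mres E h e) = M1.ores h (KoszSh.secForm s U e) :=
  M1.map_app_eq s h e

theorem hasRegBasis_basicOpen (hE : Coh.IsQCoh E) (U : X.affineOpens) (hU : HasRegBasis s n U) (g : Γ(X, U.1)) :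
    HasRegBasis s n ⟨X.basicOpen g, U.2.basicOpen g⟩ := by
  obtain ⟨b, hb⟩ := hU
  letI : Algebra Γ(X, U.1) Γ(X, X.basicOpen g) := (M1.ores (X.basicOpen_le g)).hom.toAlgebra
  haveI : IsLocalization.Away g Γ(X, X.basicOpen g) := U.2.isLocalization_basicOpen g
  letI : Module Γ(X, U.1) Γ(E, X.basicOpen g) := Module.compHom _ (M1.ores (X.basicOpen_le g)).hom
  haveI : IsScalarTower Γ(X, U.1) Γ(X, X.basicOpen g) Γ(E, X.basicOpen g) :=
    IsScalarTower.of_algebraMap_smul fun _ _ => rfl
  have hbc := SymAlg11.isBaseChange_mres E hE U.2 g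
  refine ⟨hbc.basis b, ?_⟩
  have h2 := hb.of_isLocalization Γ(X, X.basicOpen g) (Submonoid.powers g)
  rw [List.map_ofFn] at h2
  convert h2 using 2
  funext k
  show KoszSh.secForm s (X.basicOpen g) (hbc.basis b k) = _
  rw [IsBaseChange.basis_apply]
  exact secForm_mres s (X.basicOpen_le g) (b k)

theorem isAffBasis_hasRegBasis (hE : Coh.IsQCoh E) (hs : ∀ x : X, ∃ U : X.affineOpens, x ∈ U.1 ∧ HasRegBasis s n U) :
    IsAffBasis (HasRegBasis s n) := fun W x hx => by
  obtain ⟨U, hxU, hU⟩ := hs x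
  obtain ⟨g, hgW, hxg⟩ := U.2.exists_basicOpen_le ⟨x, hx⟩ hxU
  exact ⟨⟨X.basicOpen g, U.2.basicOpen g⟩, hasRegBasis_basicOpen s hE U hU g, hxg, hgW⟩

theorem acyc_of_hasRegBasis {U : X.affineOpens} (hU : HasRegBasis s n U) : Acyc (KoszSh.secForm s U.1) := by
  obtain ⟨b, hb⟩ := hU
  exact acyc_of_basis b _ hb

end Groth.Agent.KoszShH13
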