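import Groth.Agent.Lib.KoszShH13.Twist

/-! Homology of the Koszul complex of twisted divisors. -/

set_option autoImplicit false
set_option backward.isDefEq.respectTransparency false
set_option backward.isDefEq.respectTransparency.types false

universe u

open CategoryTheory Limits AlgebraicGeometry Opposite TopologicalSpace

namespace Groth.Agent.KoszShH13

variable {X : Scheme.{u}}

theorem injective_stLin_of_mono {M N : X.Modules} (f : M ⟶ N) [Mono f] (z : X) :
    Function.Injective (stLin f z) :=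
  (M1.mono_iff_stalk f).1 inferInstance z

theorem stLin_exact {S : ShortComplex X.Modules} (hS : S.Exact) (z : X) (b : (S.X₂.presheaf.stalk z : Type u))
    (hb : stLin S.g z b = 0) : ∃ a, stLin S.f z a = b :=
  (M1.exact_iff_stalk_eq_zero S).1 hS z b hb

theorem stLin_add_apply {M N : X.Modules} (f g : M ⟶ N) (z : X) (a : (M.presheaf.stalk z : Type u)) :
    stLin (f + g) z a = stLin f z a + stLin g z a :=
  ConcreteCategory.congr_hom ((M1.stalkAb z).map_add (f := f) (g := g)) a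

theorem eq_of_pullback_stalk {A B C : X.Modules} (f : A ⟶ C) (g : B ⟶ C) (z : X)
    {b b' : ((pullback f g).presheaf.stalk z : Type u)}
    (h1 : stLin (pullback.fst f g) z b = stLin (pullback.fst f g) z b')
    (h2 : stLin (pullback.snd f g) z b = stLin (pullback.snd f g) z b') : b = b' := by
  let l := biprod.lift (pullback.fst f g) (pullback.snd f g)
  have : Mono l := ⟨fun u v e => by
    refine pullback.hom_ext ?_ ?_
    · simpa [l] using congrArg (· ≫ biprod.fst) e
    · simpa [l] using congrArg (· ≫ biprod.snd) e⟩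
  apply injective_stLin_of_mono l z
  simp only [l, biprod.lift_eq, stLin_add_apply, stLin_comp, h1, h2]

theorem isSMulRegular_stalk {P : X.affineOpens → Prop} (hP : IsAffBasis P) (M : X.Modules) {U : X.Opens} {z : X}
    (hz : z ∈ U) (g : Γ(X, U))
    (h : ∀ V : X.affineOpens, P V → ∀ hV : V.1 ≤ U, IsSMulRegular Γ(M, V.1) (M1.ores hV g)) :
    IsSMulRegular (M.presheaf.stalk z : Type u) (X.presheaf.germ U z hz g) := by
  refine isSMulRegular_iff_right_eq_zero_of_smul.mpr fun b hb => ?_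
  obtain ⟨V, -, hzV, hVU, s, rfl⟩ := exists_germ_good hP M hz b
  rw [show X.presheaf.germ U z hz g = X.presheaf.germ V.1 z hzV (M1.ores hVU g) from
      (TopCat.Presheaf.germ_res_apply X.presheaf _ _ _ _).symm, ← M1.germ_smul] at hb
  obtain ⟨W, hW, hzW, hWV, he⟩ := germ_eq_zero hP M hzV _ hb
  rw [M1.mres_smul, M1.ores_ores] at he
  have hs : M1.mres M hWV s = 0 := (h W hW (hWV.trans hVU)).right_eq_zero_of_smul he
  rw [← M1.germ_mres M hWV hzW s, hs, map_zero]

theorem tau_smul {W : X.Modules} {z : X} (M : X.Modules) (c : X.presheaf.stalk z)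
    (w : (W.presheaf.stalk z : Type u)) (m : (M.presheaf.stalk z : Type u)) :
    tau M (c • w) m = c • tau M w m := by
  rw [← map_smul (tau M w)]
  apply (M2.stalkEquiv M W z).injective
  simp [tau, TensorProduct.smul_tmul]

theorem stLin_tensorMap_id {M W W' : X.Modules} (φ : W ⟶ W') {U : X.Opens} {z : X} (hz : z ∈ U) (w : Γ(W, U))
    (m : (M.presheaf.stalk z : Type u)) :
    stLin (KoszTw.tensorMap (𝟙 M) φ) z (tau M (W.presheaf.germ U z hz w) m) =
      tau M (W'.presheaf.germ U z hz (φ.app U w)) m := by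
  obtain ⟨V, -, hzV, hVU, s, rfl⟩ := exists_germ_good isAffBasis_top M hz m
  rw [tau_germ M _ hzV (M1.mres W hVU w) (M1.germ_mres W hVU hzV w), stLin_germ,
    tau_germ M _ hzV (φ.app V.1 (M1.mres W hVU w))
      (by rw [M1.map_app_eq, M1.germ_mres])]
  refine congrArg _ ?_
  exact (KoszTw.tensorMap_tmul (𝟙 M) φ V.1 _ _).trans rfl

section Twist

variable {n : ℕ} {IY : Fin n → X.IdealSheafData} {ID : X.IdealSheafData}

theorem exists_basis_ESum {U : X.affineOpens} (hU : ∀ i, ∃ g, IsGen (IY i) U g) :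
    Nonempty (Module.Basis (Fin n) Γ(X, U.1) Γ(ESum IY, U.1)) := by
  choose g hg using hU
  let v : (Fin n → Γ(X, U.1)) →ₗ[Γ(X, U.1)] Γ(ESum IY, U.1) :=
    { toFun := fun c => ∑ i : Fin n, (Sigma.ι (fun i => ClSub.idealMod (IY i)) i).app U.1
        (c i • idealLift (IY i) (g i) (hg i).mem)
      map_add' := fun (c d : Fin n → Γ(X, U.1)) => by simp [add_smul, Finset.sum_add_distrib]
      map_smul' := fun r (c : Fin n → Γ(X, U.1)) => by
        simp [Finset.smul_sum, mul_smul, Scheme.Modules.Hom.app_smul] }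
  have hco : ∀ c i, co IY U.1 i (v c) = c i * g i := fun c i => by
    show co IY U.1 i (∑ j : Fin n, (Sigma.ι (fun i => ClSub.idealMod (IY i)) j).app U.1 (c j • idealLift (IY j) (g j) (hg j).mem)) = _
    rw [co, π_ι_app, M2.idealIncl_smul, incl_idealLift]
  refine ⟨(Pi.basisFun Γ(X, U.1) (Fin n)).map (LinearEquiv.ofBijective v ⟨fun c d e => funext fun i => ?_, fun e => ?_⟩)⟩
  · exact (mul_cancel_right_mem_nonZeroDivisors (hg i).1).mp (by rw [← hco, ← hco, e])
  · have : ∀ i, ∃ c, c * g i = co IY U.1 i e := fun i =>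
      Ideal.mem_span_singleton'.1 ((hg i).2 ▸ co_mem IY U i e)
    choose c hc using this
    exact ⟨c, co_ext IY fun i => (hco c i).trans (hc i)⟩

theorem free_ESum {U : X.affineOpens} (hU : ∀ i, ∃ g, IsGen (IY i) U g) :
    Module.Free Γ(X, U.1) Γ(ESum IY, U.1) :=
  Module.Free.of_basis (exists_basis_ESum hU).some

variable (C : KoszSh.Cx (ESum IY) (sSum IY)) (C' : KoszSh.Cx (ESum (twI IY ID)) (sSum (twI IY ID)))

theorem isSMulRegular_X {U : X.affineOpens} (hU : GoodAff IY ID U) {g : Γ(X, U.1)}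
    (hg : g ∈ nonZeroDivisors Γ(X, U.1)) (p : ℕ) : IsSMulRegular Γ(C.K.X p, U.1) g := by
  have := free_ESum hU.2
  have : Module.Free Γ(X, U.1) Γ(C.K.X p, U.1) := Module.Free.of_equiv (C.loc p U).symm
  exact IsSMulRegular.of_injective (Module.Free.chooseBasis Γ(X, U.1) Γ(C.K.X p, U.1)).repr.toLinearMap
    (Module.Free.chooseBasis Γ(X, U.1) Γ(C.K.X p, U.1)).repr.injective
    (IsSMulRegular.finsupp (isRegular_iff_mem_nonZeroDivisors.mpr hg).left.isSMulRegular)

theorem bijective_omega (hP : IsAffBasis (GoodAff IY ID)) (p : ℕ)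
    {Ω : C'.K.X p ⟶ CohB1.tensorMod (C.K.X p) (CohB1.tensorPow (ClSub.idealMod ID) p)}
    (hΩ : ∀ (U : X.affineOpens), GoodAff IY ID U → ∀ (g : Γ(X, U.1)) (hg : IsGen ID U g) (m : Γ(C.K.X p, U.1)),
        Ω.app U.1 (Phi g hg.mem C C' p m) = SecTwist.tmul _ _ U.1 m (powGen ID p g hg.mem))
    (z : X) : Function.Bijective (stLin Ω z) := by
  refine ⟨(injective_iff_map_eq_zero _).2 fun a ha => ?_, fun b => ?_⟩
  · obtain ⟨V, hV, hzV, -, y, rfl⟩ := exists_germ_good hP _ (show z ∈ (⊤ : X.Opens) from trivial) a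
    obtain ⟨g, hg⟩ := hV.1
    obtain ⟨m, rfl⟩ := (bijective_Phi g hg.mem C C' hg p).2 y
    rw [stLin_germ, hΩ V hV g hg, ← tau_germ _ _ hzV (powGen ID p g hg.mem) rfl] at ha
    have hm : (C.K.X p).presheaf.germ V.1 z hzV m = 0 :=
      (bijective_tau _ (isGenAt_powGen ID hg hzV p)).1 (ha.trans (map_zero _).symm)
    obtain ⟨W, -, hzW, hWV, he⟩ := germ_eq_zero hP _ hzV m hm
    rw [← M1.germ_mres _ hWV hzW, Phi_res g hg.mem C C' hWV (hg.res hWV).mem, he, map_zero, map_zero]
  · obtain ⟨V, hV, hzV, -⟩ := hP ⊤ z trivial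
    obtain ⟨g, hg⟩ := hV.1
    obtain ⟨m, rfl⟩ := (bijective_tau _ (isGenAt_powGen ID hg hzV p)).2 b
    obtain ⟨W, hW, hzW, hWV, y, rfl⟩ := exists_germ_good hP _ hzV m
    refine ⟨(C'.K.X p).presheaf.germ W.1 z hzW (Phi (M1.ores hWV g) (hg.res hWV).mem C C' p y), ?_⟩
    rw [stLin_germ, hΩ W hW _ (hg.res hWV), tau_germ _ _ hzW (powGen ID p (M1.ores hWV g) (hg.res hWV).mem) ?_]
    rw [← powGen_res ID hWV p g hg.mem, M1.germ_mres]

variable (hP : IsAffBasis (GoodAff IY ID))
include hP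

/-- the comparison isomorphism in degree `p` -/
noncomputable def omega (p : ℕ) :
    C'.K.X p ⟶ CohB1.tensorMod (C.K.X p) (CohB1.tensorPow (ClSub.idealMod ID) p) :=
  (exists_omega C C' hP p).choose

theorem omega_spec (p : ℕ) (U : X.affineOpens) (hU : GoodAff IY ID U) (g : Γ(X, U.1)) (hg : IsGen ID U g)
    (m : Γ(C.K.X p, U.1)) :
    (omega C C' hP p).app U.1 (Phi g hg.mem C C' p m) = SecTwist.tmul _ _ U.1 m (powGen ID p g hg.mem) :=
  (exists_omega C C' hP p).choose_spec U hU g hg m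

theorem omega_d (j : ℕ) :
    omega C C' hP (j + 1) ≫ KoszTw.tensorMap (C.K.d (j + 1) j) (𝟙 _) ≫
        KoszTw.tensorMap (𝟙 (C.K.X j)) (powDown ID j) = C'.K.d (j + 1) j ≫ omega C C' hP j := by
  refine hom_ext_basis hP fun V hV y => ?_
  obtain ⟨g, hg⟩ := hV.1
  obtain ⟨m, rfl⟩ := (bijective_Phi g hg.mem C C' hg (j + 1)).2 y
  show (KoszTw.tensorMap (𝟙 (C.K.X j)) (powDown ID j)).app V.1 ((KoszTw.tensorMap (C.K.d (j + 1) j) (𝟙 _)).app V.1
    ((omega C C' hP (j + 1)).app V.1 (Phi g hg.mem C C' (j + 1) m))) =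
      (omega C C' hP j).app V.1 ((C'.K.d (j + 1) j).app V.1 (Phi g hg.mem C C' (j + 1) m))
  rw [omega_spec C C' hP (j + 1) V hV g hg, KoszTw.tensorMap_tmul, KoszTw.tensorMap_tmul,
    d_Phi g hg.mem C C' j m, Scheme.Modules.Hom.app_smul, omega_spec C C' hP j V hV g hg]
  refine Eq.trans ?_ (tmul_smul_right g _ _)
  rw [show (𝟙 (C.K.X j) : C.K.X j ⟶ _).app V.1 ((C.K.d (j + 1) j).app V.1 m) = (C.K.d (j + 1) j).app V.1 m from rfl,
    show (𝟙 (CohB1.tensorPow (ClSub.idealMod ID) (j + 1)) : _ ⟶ _).app V.1 (powGen ID (j + 1) g hg.mem) =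
      powGen ID (j + 1) g hg.mem from rfl, powDown_powGen ID j g hg.mem]

variable {V : X.affineOpens} {g : Γ(X, V.1)} (hg : IsGen ID V g) {z : X} (hzV : z ∈ V.1)

/-- the generator of the twist at `z` -/
noncomputable abbrev wAt (p : ℕ) : ((CohB1.tensorPow (ClSub.idealMod ID) p).presheaf.stalk z : Type u) :=
  (CohB1.tensorPow (ClSub.idealMod ID) p).presheaf.germ V.1 z hzV (powGen ID p g hg.mem)

theorem omega_d_stalk (j : ℕ) (a : ((C'.K.X (j + 1)).presheaf.stalk z : Type u))
    (m : ((C.K.X (j + 1)).presheaf.stalk z : Type u))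
    (ha : stLin (omega C C' hP (j + 1)) z a = tau _ (wAt hg hzV (j + 1)) m) :
    stLin (omega C C' hP j) z (stLin (C'.K.d (j + 1) j) z a) =
      tau _ (wAt hg hzV j) (X.presheaf.germ V.1 z hzV g • stLin (C.K.d (j + 1) j) z m) := by
  rw [← stLin_comp, ← omega_d C C' hP j, stLin_comp, stLin_comp, ha, stLin_tau _ hzV _ rfl,
    stLin_tensorMap_id, powDown_powGen, M1.germ_smul, tau_smul, map_smul]

omit hP in
include hg in
theorem isSMulRegular_X_stalk (hP : IsAffBasis (GoodAff IY ID)) (p : ℕ) :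
    IsSMulRegular ((C.K.X p).presheaf.stalk z : Type u) (X.presheaf.germ V.1 z hzV g) :=
  isSMulRegular_stalk hP _ hzV g fun W hW hWV => isSMulRegular_X C hW (hg.res hWV).1 p

end Twist

section Homology

variable {n : ℕ} {IY : Fin n → X.IdealSheafData} {ID : X.IdealSheafData}
  (C : KoszSh.Cx (ESum IY) (sSum IY)) (C' : KoszSh.Cx (ESum (twI IY ID)) (sSum (twI IY ID))) (q : ℕ)

theorem homology_iso (hP : IsAffBasis (GoodAff IY ID))
    (hreg : ∀ (U : X.affineOpens) (x : Γ(X, U.1)), x ∈ nonZeroDivisors Γ(X, U.1) → ID.ideal U = Ideal.span {x} →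
      IsSMulRegular Γ(C.K.homology q, U.1) x) :
    Nonempty (C'.K.homology q ≅ CohB1.tensorMod
      (pullback
        ((Scheme.Modules.pullback ID.subschemeι ⋙ Scheme.Modules.pushforward ID.subschemeι).map (C.K.homologyπ q))
        ((Scheme.Modules.pullbackPushforwardAdjunction ID.subschemeι).unit.app (C.K.homology q)))
      (CohB1.tensorPow (ClSub.idealMod ID) q)) := by
  set W := CohB1.tensorPow (ClSub.idealMod ID) q
  set F := Scheme.Modules.pullback ID.subschemeι ⋙ Scheme.Modules.pushforward ID.subschemeι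
  set η := (Scheme.Modules.pullbackPushforwardAdjunction ID.subschemeι).unit
  let i := C.K.iCycles q
  let π := C.K.homologyπ q
  let P := pullback (F.map π) (η.app (C.K.homology q))
  let p₁ : P ⟶ F.obj (C.K.cycles q) := pullback.fst (F.map π) (η.app (C.K.homology q))
  let p₂ : P ⟶ C.K.homology q := pullback.snd (F.map π) (η.app (C.K.homology q))
  let w : C.K.cycles q ⟶ P :=
    pullback.lift (η.app _) π (η.naturality π).symm
  have hgen : ∀ z : X, ∃ V : X.affineOpens, GoodAff IY ID V ∧ ∃ (g : Γ(X, V.1)) (_ : IsGen ID V g), z ∈ V.1 := by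
    intro z
    obtain ⟨V, hV, hzV, -⟩ := hP ⊤ z trivial
    obtain ⟨g, hg⟩ := hV.1
    exact ⟨V, hV, g, hg, hzV⟩
  let σ : CohB1.tensorMod (C.K.cycles q) W ⟶ CohB1.tensorMod (C.K.X q) W := KoszTw.tensorMap i (𝟙 W)
  let j := (ComplexShape.down ℕ).next q
  let δ : CohB1.tensorMod (C.K.X q) W ⟶ CohB1.tensorMod (C.K.X j) W := KoszTw.tensorMap (C.K.d q j) (𝟙 W)
  have hσ : Mono σ := by
    rw [M1.mono_iff_stalk]
    intro z
    obtain ⟨V, -, g, hg, hzV⟩ := hgen z
    refine (injective_iff_map_eq_zero (stLin σ z)).2 fun a ha => ?_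
    obtain ⟨m, rfl⟩ := (bijective_tau _ (isGenAt_powGen ID hg hzV q)).2 a
    rw [stLin_tau i hzV _ rfl] at ha
    rw [injective_stLin_of_mono i z (((bijective_tau _ (isGenAt_powGen ID hg hzV q)).1
      (ha.trans (map_zero _).symm)).trans (map_zero _).symm), map_zero]
  have hexact : (ShortComplex.mk i (C.K.d q j) (C.K.iCycles_d q j)).Exact :=
    ShortComplex.exact_of_f_is_kernel _ (C.K.cyclesIsKernel q j rfl)
  have hσδ : σ ≫ δ = 0 := by
    refine hom_ext_basis isAffBasis_top fun V _ a => ?_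
    refine M1.section_ext _ _ fun z hz => ?_
    obtain ⟨U, -, g, hg, hzU⟩ := hgen z
    obtain ⟨m, hm⟩ := (bijective_tau _ (isGenAt_powGen ID hg hzU q)).2
      ((CohB1.tensorMod (C.K.cycles q) W).presheaf.germ V.1 z hz a)
    rw [← stLin_germ _ hz, ← stLin_germ _ hz, ← hm, stLin_comp, stLin_tau i hzU _ rfl,
      stLin_tau _ hzU _ rfl, ← stLin_comp, C.K.iCycles_d, stLin_zero, map_zero, stLin_zero]
  have hS : (ShortComplex.mk σ δ hσδ).Exact := by
    rw [M1.exact_iff_stalk_eq_zero]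
    intro z b hb
    obtain ⟨V, -, g, hg, hzV⟩ := hgen z
    obtain ⟨m, rfl⟩ := (bijective_tau _ (isGenAt_powGen ID hg hzV q)).2 b
    change stLin δ z _ = 0 at hb
    rw [stLin_tau _ hzV _ rfl] at hb
    obtain ⟨a, ha⟩ := stLin_exact hexact z m ((bijective_tau _ (isGenAt_powGen ID hg hzV q)).1
      (hb.trans (map_zero _).symm))
    exact ⟨tau _ (wAt hg hzV q) a, (stLin_tau i hzV _ rfl a).trans (congrArg _ ha)⟩
  have h0 : (C'.K.iCycles q ≫ omega C C' hP q) ≫ δ = 0 := by
    cases q with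
    | zero =>
      have : C.K.d 0 j = 0 := C.K.shape _ _ (by simp [j])
      have hδ : δ = 0 := by
        refine hom_ext_basis isAffBasis_top fun V _ a => ?_
        refine M1.section_ext _ _ fun z hz => ?_
        obtain ⟨U, -, g, hg, hzU⟩ := hgen z
        obtain ⟨m, hm⟩ := (bijective_tau _ (isGenAt_powGen ID hg hzU 0)).2
          ((CohB1.tensorMod (C.K.X 0) W).presheaf.germ V.1 z hz a)
        rw [← stLin_germ _ hz, ← stLin_germ _ hz, ← hm, stLin_tau _ hzU _ rfl, this, stLin_zero, map_zero, stLin_zero]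
      rw [hδ, comp_zero]
    | succ k =>
      have hj : j = k := ComplexShape.next_eq' _ rfl
      refine hom_ext_basis isAffBasis_top fun V _ a => ?_
      refine M1.section_ext _ _ fun z hz => ?_
      obtain ⟨U, -, g, hg, hzU⟩ := hgen z
      rw [← stLin_germ _ hz, ← stLin_germ _ hz, stLin_zero]
      generalize (C'.K.cycles (k + 1)).presheaf.germ V.1 z hz a = b
      obtain ⟨m, hm⟩ := (bijective_tau _ (isGenAt_powGen ID hg hzU (k + 1))).2
        (stLin (omega C C' hP (k + 1)) z (stLin (C'.K.iCycles (k + 1)) z b))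
      have h1 := omega_d_stalk C C' hP hg hzU k _ m hm.symm
      rw [show stLin (C'.K.d (k + 1) k) z (stLin (C'.K.iCycles (k + 1)) z b) = 0 by
        rw [← stLin_comp, C'.K.iCycles_d, stLin_zero], map_zero] at h1
      have h2 := (isSMulRegular_X_stalk C hg hzU hP k).right_eq_zero_of_smul
        ((bijective_tau _ (isGenAt_powGen ID hg hzU k)).1 (h1.symm.trans (map_zero _).symm))
      rw [stLin_comp, stLin_comp, ← hm, stLin_tau _ hzU _ rfl]
      clear_value j
      subst hj
      rw [h2, map_zero]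
  let κ : C'.K.cycles q ⟶ CohB1.tensorMod (C.K.cycles q) W := hS.lift _ h0
  have hκ : ∀ z a, stLin σ z (stLin κ z a) = stLin (omega C C' hP q) z (stLin (C'.K.iCycles q) z a) :=
    fun z a => by rw [← stLin_comp, ← stLin_comp, hS.lift_f]
  let γ : C'.K.cycles q ⟶ CohB1.tensorMod (pullback (F.map π) (η.app (C.K.homology q))) W :=
    κ ≫ KoszTw.tensorMap w (𝟙 W)
  have hw : ∀ z (a : ((C.K.cycles q).presheaf.stalk z : Type u)),
      stLin p₁ z (stLin w z a) = stLin (unitD ID (C.K.cycles q)) z a ∧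
        stLin p₂ z (stLin w z a) = stLin π z a := fun z a =>
    ⟨(stLin_comp w _ z a).symm.trans (congrArg (fun φ => stLin φ z a) (pullback.lift_fst _ _ _)),
      (stLin_comp w _ z a).symm.trans (congrArg (fun φ => stLin φ z a) (pullback.lift_snd _ _ _))⟩
  have hZH : ∀ k, C.K.toCycles k q ≫ π = 0 := fun k => C.K.toCycles_comp_homologyπ k q
  have hto : C'.K.toCycles (q + 1) q ≫ γ = 0 := by
    refine hom_ext_basis isAffBasis_top fun V _ a => ?_
    refine M1.section_ext _ _ fun z hz => ?_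
    obtain ⟨U, -, g, hg, hzU⟩ := hgen z
    rw [← stLin_germ _ hz, ← stLin_germ _ hz, stLin_zero]
    generalize (C'.K.X (q + 1)).presheaf.germ V.1 z hz a = b
    obtain ⟨m, hm⟩ := (bijective_tau _ (isGenAt_powGen ID hg hzU (q + 1))).2
      (stLin (omega C C' hP (q + 1)) z b)
    set t := X.presheaf.germ U.1 z hzU g
    have hk : stLin κ z (stLin (C'.K.toCycles (q + 1) q) z b) =
        tau _ (wAt hg hzU q) (t • stLin (C.K.toCycles (q + 1) q) z m) := by
      apply injective_stLin_of_mono σ z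
      rw [hκ, ← stLin_comp _ (C'.K.iCycles q), C'.K.toCycles_i, omega_d_stalk C C' hP hg hzU q b m hm.symm,
        stLin_tau i hzU _ rfl, map_smul (stLin i z), ← stLin_comp, C.K.toCycles_i]
    rw [stLin_comp, stLin_comp, hk, stLin_tau w hzU _ rfl]
    suffices stLin w z (t • stLin (C.K.toCycles (q + 1) q) z m) = 0 by rw [this, map_zero]
    refine eq_of_pullback_stalk _ _ z ?_ ?_
    · show stLin p₁ z _ = stLin p₁ z 0
      rw [(hw z _).1, map_zero]
      exact ((unitD_stalk ID _ U g hg.2 hzU).2 _).2 ⟨_, rfl⟩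
    · show stLin p₂ z _ = stLin p₂ z 0
      rw [(hw z _).2, map_zero, map_smul, ← stLin_comp, hZH, stLin_zero, smul_zero]
  have hsurj : ∀ (z : X) (b : ((C.K.cycles q).presheaf.stalk z : Type u)) (U : X.affineOpens) (g : Γ(X, U.1))
      (hg : IsGen ID U g) (hzU : z ∈ U.1), ∃ a, stLin κ z a = tau _ (wAt hg hzU q) b := by
    intro z b U g hg hzU
    obtain ⟨a, ha⟩ := (bijective_omega C C' hP q (omega_spec C C' hP q) z).2 (tau _ (wAt hg hzU q) (stLin i z b))
    have ha0 : stLin (C'.K.d q j) z a = 0 := by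
      cases q with
      | zero =>
        rw [C'.K.shape 0 j (by simp [j]), stLin_zero]
      | succ k =>
        have hj : j = k := ComplexShape.next_eq' _ rfl
        clear_value j
        subst hj
        apply (bijective_omega C C' hP j (omega_spec C C' hP j) z).1
        rw [omega_d_stalk C C' hP hg hzU j a _ ha, ← stLin_comp, C.K.iCycles_d, stLin_zero, smul_zero, map_zero, map_zero]
    obtain ⟨a', ha'⟩ := stLin_exact (ShortComplex.exact_of_f_is_kernel
      (ShortComplex.mk _ _ (C'.K.iCycles_d q j)) (C'.K.cyclesIsKernel q j rfl)) z a ha0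
    refine ⟨a', injective_stLin_of_mono σ z ?_⟩
    rw [hκ, show stLin (C'.K.iCycles q) z a' = a from ha', ha, stLin_tau i hzU _ rfl]
  have hepi : Epi γ := by
    rw [M1.epi_iff_stalk]
    intro z
    show Function.Surjective (stLin γ z)
    intro c
    obtain ⟨U, -, g, hg, hzU⟩ := hgen z
    obtain ⟨p, rfl⟩ := (bijective_tau _ (isGenAt_powGen ID hg hzU q)).2 c
    obtain ⟨z0, hz0⟩ := (unitD_stalk ID (C.K.cycles q) U g hg.2 hzU).1 (stLin p₁ z p)
    have hh : stLin (unitD ID (C.K.homology q)) z (stLin π z z0 - stLin p₂ z p) = 0 := by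
      rw [map_sub, ← stLin_comp π, ← stLin_comp p₂,
        show p₂ ≫ unitD ID (C.K.homology q) = p₁ ≫ F.map π from pullback.condition.symm,
        stLin_comp p₁, ← hz0, ← stLin_comp, sub_eq_zero]
      exact congrArg (fun φ => stLin φ z z0) (η.naturality π)
    obtain ⟨h', hh'⟩ := ((unitD_stalk ID (C.K.homology q) U g hg.2 hzU).2 _).1 hh
    obtain ⟨z1, rfl⟩ : ∃ z1, stLin π z z1 = h' := (M1.epi_iff_stalk π).1 inferInstance z h'
    have hp : stLin w z (z0 - X.presheaf.germ U.1 z hzU g • z1) = p := by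
      refine eq_of_pullback_stalk _ _ z ?_ ?_
      · show stLin p₁ z _ = stLin p₁ z p
        rw [(hw z _).1, map_sub, ((unitD_stalk ID _ U g hg.2 hzU).2 _).2 ⟨z1, rfl⟩, sub_zero]
        exact hz0
      · show stLin p₂ z _ = stLin p₂ z p
        rw [(hw z _).2, map_sub, map_smul]
        exact (sub_eq_iff_eq_add.2 (sub_eq_iff_eq_add.1 hh'.symm |>.trans (add_comm _ _)))
    obtain ⟨a, ha⟩ := hsurj z (z0 - X.presheaf.germ U.1 z hzU g • z1) U g hg hzU
    refine ⟨a, ?_⟩
    rw [stLin_comp, ha, stLin_tau w hzU _ rfl, hp]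
  have hT : (ShortComplex.mk _ γ hto).Exact := by
    rw [M1.exact_iff_stalk_eq_zero]
    intro z b hb
    obtain ⟨U, -, g, hg, hzU⟩ := hgen z
    change stLin γ z b = 0 at hb
    show ∃ a, stLin (C'.K.toCycles (q + 1) q) z a = b
    obtain ⟨y, hy⟩ := (bijective_tau _ (isGenAt_powGen ID hg hzU q)).2 (stLin κ z b)
    rw [stLin_comp, ← hy, stLin_tau w hzU _ rfl] at hb
    have hwy := (bijective_tau _ (isGenAt_powGen ID hg hzU q)).1 (hb.trans (map_zero _).symm)
    have hy1 := congrArg (stLin p₁ z) hwy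
    have hy2 := congrArg (stLin p₂ z) hwy
    rw [(hw z _).1, map_zero] at hy1
    rw [(hw z _).2, map_zero] at hy2
    obtain ⟨z1, rfl⟩ := ((unitD_stalk ID _ U g hg.2 hzU).2 _).1 hy1
    rw [map_smul] at hy2
    have hz1 : stLin π z z1 = 0 := (isSMulRegular_stalk hP _ hzU g fun V _ hV => hreg V _ (hg.res hV).1
      (hg.res hV).2).right_eq_zero_of_smul hy2
    obtain ⟨m, rfl⟩ := stLin_exact (ShortComplex.exact_of_g_is_cokernel
      (ShortComplex.mk _ _ (hZH (q + 1))) (C.K.homologyIsCokernel (q + 1) q (by simp))) z z1 hz1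
    obtain ⟨a, ha⟩ := (bijective_omega C C' hP (q + 1) (omega_spec C C' hP (q + 1)) z).2
      (tau _ (wAt hg hzU (q + 1)) m)
    refine ⟨a, injective_stLin_of_mono (C'.K.iCycles q) z
      ((bijective_omega C C' hP q (omega_spec C C' hP q) z).1 ?_)⟩
    rw [← stLin_comp (C'.K.toCycles (q + 1) q) (C'.K.iCycles q), C'.K.toCycles_i, omega_d_stalk C C' hP hg hzU q a m ha, ← hκ, ← hy,
      stLin_tau i hzU _ rfl]
    refine congrArg _ ?_
    show _ = stLin i z (_ • stLin (C.K.toCycles (q + 1) q) z m)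
    rw [map_smul, ← stLin_comp, C.K.toCycles_i]
  exact ⟨(C'.K.homologyIsCokernel (q + 1) q (by simp)).coconePointUniqueUpToIso hT.gIsCokernel⟩

end Homology

end Groth.Agent.KoszShH13
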