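import Groth.Agent.Lib.KoszShH13.Main
import Groth.Agent.Lib.RankStratum13.Basic
import Groth.Agent.Lib.TensorMod.Invertible

/-! Exterior powers of a module twisted by an invertible module. -/

set_option autoImplicit false
set_option backward.isDefEq.respectTransparency false
set_option backward.isDefEq.respectTransparency.types false

universe u

open CategoryTheory Limits AlgebraicGeometry Opposite TopologicalSpace exteriorPower

namespace Groth.Agent.KoszShH13

variable {X : Scheme.{u}} {L : X.Modules}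

/-- affine opens where `L` has a generator -/
def GenAff (L : X.Modules) (U : X.affineOpens) : Prop := ∃ l : Γ(L, U.1), M2.IsGenerator l

theorem isGenerator_mres {U V : X.Opens} {l : Γ(L, U)} (hl : M2.IsGenerator l) (h : V ≤ U) :
    M2.IsGenerator (M1.mres L h l) := fun W hW => by
  have := hl W (hW.trans h)
  rw [show M2.res L hW (M1.mres L h l) = M2.res L (hW.trans h) l from M1.mres_mres L h hW l]
  exact this

theorem isAffBasis_genAff (hL : PicF.IsInvertible L) : IsAffBasis (GenAff L) := by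
  intro O x hx
  obtain ⟨U, hxU, ⟨i⟩⟩ := hL x
  obtain ⟨e, he⟩ := M2.exists_generator i
  obtain ⟨V, -, hxV, hV⟩ := isAffBasis_top (O ⊓ U) x ⟨hx, hxU⟩
  exact ⟨V, ⟨_, isGenerator_mres he (hV.trans inf_le_right)⟩, hxV, hV.trans inf_le_left⟩

theorem isAffBasis_genAff_free {F : X.Modules} (hF : FlatMod.IsFinLocFree F) (hL : PicF.IsInvertible L) :
    IsAffBasis fun U => GenAff L U ∧ Module.Free Γ(X, U.1) Γ(F, U.1) := by
  intro O x hx
  obtain ⟨U, n, hxU, ⟨e⟩⟩ := hF x
  obtain ⟨V, hV, hxV, hVO⟩ := isAffBasis_genAff hL (O ⊓ U) x ⟨hx, hxU⟩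
  obtain ⟨b⟩ := RankStratum13.exists_basis_of_freeMod (M2.isQCoh_of_isFinLocFree hF) e V.2 (hVO.trans inf_le_right)
  exact ⟨V, ⟨hV, Module.Free.of_basis b⟩, hxV, hVO.trans inf_le_left⟩

variable {U : X.affineOpens} {l : Γ(L, U.1)} (hl : M2.IsGenerator l)

include hl in
theorem isGenAt_of_isGenerator {z : X} (hz : z ∈ U.1) : IsGenAt L z (L.presheaf.germ U.1 z hz l) :=
  isGenAt_of_sections hz l hl

/-- the power of a generator -/
noncomputable abbrev lpow (l : Γ(L, U.1)) (p : ℕ) : Γ(CohB1.tensorPow L p, U.1) :=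
  KoszTw.tprod L p U.1 fun _ => l

include hl in
theorem isGenAt_lpow {z : X} (hz : z ∈ U.1) : ∀ p : ℕ,
    IsGenAt (CohB1.tensorPow L p) z ((CohB1.tensorPow L p).presheaf.germ U.1 z hz (lpow l p))
  | 0 => by
    refine isGenAt_of_sections hz _ fun V hV => ?_
    have h1 : M1.mres (CohB1.tensorPow L 0) hV (lpow l 0) =
        (show Γ(CohB1.tensorPow L 0, V) from (1 : Γ(X, V))) := map_one (M1.ores hV).hom
    rw [h1]
    refine ⟨fun r r' e => ?_, fun b => ⟨b, mul_one (show Γ(X, V) from b)⟩⟩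
    exact ((mul_one r).symm.trans e).trans (mul_one r')
  | p + 1 => by
    have ih := isGenAt_lpow hz p
    have e := tau_germ (CohB1.tensorPow L p) (L.presheaf.germ U.1 z hz l) hz l rfl (lpow l p)
    show IsGenAt (CohB1.tensorMod _ _) z ((CohB1.tensorMod (CohB1.tensorPow L p) L).presheaf.germ U.1 z hz
      (SecTwist.tmul _ _ U.1 (lpow l p) _))
    rw [← e]
    unfold IsGenAt
    simp only [← map_smul]
    exact (bijective_tau _ (isGenAt_of_isGenerator hl hz)).comp ih

theorem lpow_mres {V : X.affineOpens} (h : V.1 ≤ U.1) (l : Γ(L, U.1)) (p : ℕ) :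
    M1.mres (CohB1.tensorPow L p) h (lpow l p) = lpow (M1.mres L h l) p :=
  KoszTw.map_tprod L p (homOfLE h) _

theorem lpow_smul (c : Γ(X, U.1)) (l : Γ(L, U.1)) : ∀ p : ℕ, lpow (c • l) p = c ^ p • lpow l p
  | 0 => by rw [pow_zero, one_smul]; rfl
  | p + 1 => by
    show SecTwist.tmul _ _ U.1 (lpow (c • l) p) (c • l) =
      c ^ (p + 1) • (show Γ(CohB1.tensorMod (CohB1.tensorPow L p) L, U.1) from
        SecTwist.tmul _ _ U.1 (lpow l p) l)
    rw [lpow_smul c l p, pow_succ, mul_smul]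
    refine (tmul_smul_left (c ^ p) _ _).trans ?_
    exact congrArg (c ^ p • ·) (tmul_smul_right c _ _)

section Psi

variable (F : X.Modules)

/-- `m ↦ m ⊗ l` -/
noncomputable def psiL (l : Γ(L, U.1)) : Γ(F, U.1) →ₗ[Γ(X, U.1)] Γ(CohB1.tensorMod F L, U.1) where
  toFun m := SecTwist.tmul F L U.1 m l
  map_add' m m' := tmul_add_left m m' l
  map_smul' r m := tmul_smul_left r m l

include hl in
theorem bijective_psiL : Function.Bijective (psiL F l) := by
  have hinj : ∀ (W : X.Opens) (hW : W ≤ U.1) (m m' : Γ(F, W)),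
      SecTwist.tmul F L W m (M1.mres L hW l) = SecTwist.tmul F L W m' (M1.mres L hW l) → m = m' := by
    intro W hW m m' e
    refine M1.section_ext _ _ fun z hz => (bijective_tau F (isGenAt_of_isGenerator hl (hW hz))).1 ?_
    rw [tau_germ F _ hz (M1.mres L hW l) (M1.germ_mres L hW hz l),
      tau_germ F _ hz (M1.mres L hW l) (M1.germ_mres L hW hz l), e]
  refine ⟨fun m m' e => hinj U.1 le_rfl m m' (by rw [M1.mres_id]; exact e), fun s => ?_⟩
  have hloc : ∀ z : U.1, ∃ (W : X.Opens) (hW : W ≤ U.1), z.1 ∈ W ∧ ∃ m : Γ(F, W),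
      SecTwist.tmul F L W m (M1.mres L hW l) = M1.mres (CohB1.tensorMod F L) hW s := by
    rintro ⟨z, hz⟩
    obtain ⟨b, hb⟩ := (bijective_tau F (isGenAt_of_isGenerator hl hz)).2
      ((CohB1.tensorMod F L).presheaf.germ U.1 z hz s)
    obtain ⟨V, -, hzV, hVU, m, rfl⟩ := exists_germ_good isAffBasis_top F hz b
    rw [tau_germ F _ hzV (M1.mres L hVU l) (M1.germ_mres L hVU hzV l)] at hb
    obtain ⟨W, hzW, i₁, i₂, he⟩ := (CohB1.tensorMod F L).presheaf.germ_eq z hzV hz _ s hb
    refine ⟨W, i₁.le.trans hVU, hzW, M1.mres F i₁.le m, ?_⟩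
    rw [← M1.mres_mres L hVU i₁.le, ← mres_tmul]
    exact he
  choose W hW hzW m hm using hloc
  have hcov : U.1 ≤ iSup W := fun z hz => Opens.mem_iSup.2 ⟨⟨z, hz⟩, hzW _⟩
  obtain ⟨m₀, hm₀, -⟩ := TopCat.Sheaf.existsUnique_gluing'
    (⟨F.presheaf, F.isSheaf⟩ : TopCat.Sheaf AddCommGrpCat.{u} X.carrier) W U.1 (fun z => homOfLE (hW z)) hcov m
    (fun i j => by
      refine hinj (W i ⊓ W j) (inf_le_left.trans (hW i)) _ _ ?_
      have hi := congrArg (M1.mres (CohB1.tensorMod F L) (inf_le_left : W i ⊓ W j ≤ W i)) (hm i)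
      have hj := congrArg (M1.mres (CohB1.tensorMod F L) (inf_le_right : W i ⊓ W j ≤ W j)) (hm j)
      rw [mres_tmul, M1.mres_mres, M1.mres_mres] at hi hj
      exact hi.trans hj.symm)
  refine ⟨m₀, M1.section_ext _ _ fun z hz => ?_⟩
  rw [← M1.germ_mres _ (hW ⟨z, hz⟩) (hzW ⟨z, hz⟩), ← M1.germ_mres _ (hW ⟨z, hz⟩) (hzW ⟨z, hz⟩)]
  refine congrArg _ ?_
  rw [show psiL F l m₀ = SecTwist.tmul F L U.1 m₀ l from rfl, mres_tmul, ← hm ⟨z, hz⟩]
  exact congrArg (fun a => SecTwist.tmul F L (W ⟨z, hz⟩) a (M1.mres L (hW ⟨z, hz⟩) l)) (hm₀ ⟨z, hz⟩)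

theorem psiL_smul (c : Γ(X, U.1)) (l : Γ(L, U.1)) : psiL F (c • l) = c • psiL F l :=
  LinearMap.ext fun m => tmul_smul_right c m l

theorem mres_psiL {V : X.affineOpens} (h : V.1 ≤ U.1) (l : Γ(L, U.1)) (m : Γ(F, U.1)) :
    M1.mres _ h (psiL F l m) = psiL F (M1.mres L h l) (M1.mres F h m) :=
  mres_tmul h m l

end Psi

section Theta

variable {F P Q : X.Modules} (p : ℕ)
  (locP : ∀ U : X.affineOpens, Γ(P, U.1) ≃ₗ[Γ(X, U.1)] ↥(⋀[Γ(X, U.1)]^p Γ(CohB1.tensorMod F L, U.1)))
  (locQ : ∀ U : X.affineOpens, Γ(Q, U.1) ≃ₗ[Γ(X, U.1)] ↥(⋀[Γ(X, U.1)]^p Γ(F, U.1)))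

/-- the twist on sections of exterior powers -/
noncomputable def Theta (l : Γ(L, U.1)) : Γ(Q, U.1) →ₗ[Γ(X, U.1)] Γ(P, U.1) :=
  (locP U).symm.toLinearMap.comp ((exteriorPower.map p (psiL F l)).comp (locQ U).toLinearMap)

theorem Theta_loc (l : Γ(L, U.1)) (x : ↥(⋀[Γ(X, U.1)]^p Γ(F, U.1))) :
    Theta p locP locQ l ((locQ U).symm x) = (locP U).symm (exteriorPower.map p (psiL F l) x) := by
  simp [Theta]

include hl in
theorem bijective_Theta : Function.Bijective (Theta p locP locQ l) := by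
  let e := LinearEquiv.ofBijective _ (bijective_psiL hl F)
  have hb : Function.Bijective (exteriorPower.map p e.toLinearMap) := by
    refine Function.bijective_iff_has_inverse.2 ⟨exteriorPower.map p e.symm.toLinearMap, fun x => ?_, fun x => ?_⟩
    · rw [← LinearMap.comp_apply, ← exteriorPower.map_comp]
      simp
    · rw [← LinearMap.comp_apply, ← exteriorPower.map_comp]
      simp
  exact (locP U).symm.bijective.comp (hb.comp (locQ U).bijective)

theorem Theta_smul (c : Γ(X, U.1)) (l : Γ(L, U.1)) (m : Γ(Q, U.1)) :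
    Theta p locP locQ (c • l) m = c ^ p • Theta p locP locQ l m := by
  have h : exteriorPower.map p (psiL F (c • l)) = c ^ p • exteriorPower.map p (psiL F l) := by
    rw [psiL_smul, Submodule.linearMap_eq_iff_of_span_eq_top _ _ (exteriorPower.ιMulti_span _ p _)]
    rintro ⟨_, e, rfl⟩
    rw [LinearMap.smul_apply, exteriorPower.map_apply_ιMulti, exteriorPower.map_apply_ιMulti]
    refine ((exteriorPower.ιMulti Γ(X, U.1) p).toMultilinearMap.map_smul_univ (fun _ => c) _).trans ?_
    rw [Finset.prod_const, Finset.card_univ, Fintype.card_fin]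
    rfl
  simp [Theta, h]

theorem Theta_res
    (hP : ∀ (U V : X.affineOpens) (h : V.1 ≤ U.1) (e : Fin p → Γ(CohB1.tensorMod F L, U.1)),
      M1.mres P h ((locP U).symm (ιMulti _ p e)) = (locP V).symm (ιMulti _ p fun j => M1.mres _ h (e j)))
    (hQ : ∀ (U V : X.affineOpens) (h : V.1 ≤ U.1) (e : Fin p → Γ(F, U.1)),
      M1.mres Q h ((locQ U).symm (ιMulti _ p e)) = (locQ V).symm (ιMulti _ p fun j => M1.mres F h (e j)))
    {V : X.affineOpens} (h : V.1 ≤ U.1) (l : Γ(L, U.1)) (m : Γ(Q, U.1)) :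
    M1.mres P h (Theta p locP locQ l m) = Theta p locP locQ (M1.mres L h l) (M1.mres Q h m) := by
  obtain ⟨x, rfl⟩ := (locQ U).symm.surjective m
  refine extPow_ext (((M1.mres P h).hom.comp (Theta p locP locQ l).toAddMonoidHom).comp
      (locQ U).symm.toLinearMap.toAddMonoidHom)
    (((Theta p locP locQ (M1.mres L h l)).toAddMonoidHom.comp (M1.mres Q h).hom).comp
      (locQ U).symm.toLinearMap.toAddMonoidHom) (fun c e => ?_) x
  show M1.mres P h (Theta p locP locQ l ((locQ U).symm (c • _))) =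
    Theta p locP locQ (M1.mres L h l) (M1.mres Q h ((locQ U).symm (c • _)))
  rw [map_smul, map_smul, M1.mres_smul, M1.mres_smul, map_smul, Theta_loc, exteriorPower.map_apply_ιMulti]
  congr 1
  refine (hP U V h _).trans ?_
  refine Eq.trans ?_ (congrArg (Theta p locP locQ (M1.mres L h l)) (hQ U V h e).symm)
  rw [Theta_loc, exteriorPower.map_apply_ιMulti]
  congr 2
  funext j
  exact mres_psiL F h l (e j)

theorem iso_Theta (θ : KoszTw.DecData F L p P Q locP locQ) (l : Γ(L, U.1)) (m : Γ(Q, U.1)) :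
    θ.iso.hom.app U.1 (Theta p locP locQ l m) = SecTwist.tmul Q _ U.1 m (lpow l p) := by
  obtain ⟨x, rfl⟩ := (locQ U).symm.surjective m
  refine extPow_ext (((θ.iso.hom.app U.1).hom.comp (Theta p locP locQ l).toAddMonoidHom).comp
      (locQ U).symm.toLinearMap.toAddMonoidHom)
    (AddMonoidHom.mk' (fun x => SecTwist.tmul Q _ U.1 ((locQ U).symm x) (lpow l p)) fun x y => by
      rw [map_add]; exact tmul_add_left _ _ _) (fun c e => ?_) x
  show θ.iso.hom.app U.1 (Theta p locP locQ l ((locQ U).symm (c • _))) =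
    SecTwist.tmul Q _ U.1 ((locQ U).symm (c • _)) (lpow l p)
  rw [map_smul, map_smul, Scheme.Modules.Hom.app_smul, Theta_loc, exteriorPower.map_apply_ιMulti]
  refine Eq.trans ?_ (tmul_smul_left c _ _).symm
  exact congrArg (fun a => c • a) (θ.rule U e fun _ => l)

end Theta

section Stalkwise

theorem imageSubobject_le_of_stalk {A A' B : X.Modules} (f : A ⟶ B) (g : A' ⟶ B)
    (h : ∀ (z : X) (a : (A.presheaf.stalk z : Type u)), ∃ a', stLin g z a' = stLin f z a) :
    imageSubobject f ≤ imageSubobject g := by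
  have h0 : (imageSubobject f).arrow ≫ cokernel.π (imageSubobject g).arrow = 0 := by
    rw [← cancel_epi (factorThruImageSubobject f), imageSubobject_arrow_comp_assoc, comp_zero]
    refine hom_ext_basis isAffBasis_top fun V _ a => M1.section_ext _ _ fun z hz => ?_
    rw [← stLin_germ _ hz, ← stLin_germ _ hz, stLin_zero, stLin_comp]
    obtain ⟨a', ha'⟩ := h z (A.presheaf.germ V.1 z hz a)
    have hg : g ≫ cokernel.π (imageSubobject g).arrow = 0 := by
      conv_lhs => enter [1]; rw [← imageSubobject_arrow_comp g]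
      rw [Category.assoc, cokernel.condition, comp_zero]
    rw [← ha', ← stLin_comp, hg, stLin_zero]
  exact Subobject.le_of_comm (Abelian.monoLift _ _ h0) (Abelian.monoLift_comp _ _ _)

theorem kernelSubobject_le_of_stalk {A B B' : X.Modules} (f : A ⟶ B) (g : A ⟶ B')
    (h : ∀ (z : X) (a : (A.presheaf.stalk z : Type u)), stLin f z a = 0 → stLin g z a = 0) :
    kernelSubobject f ≤ kernelSubobject g := by
  refine le_kernelSubobject _ _ (hom_ext_basis isAffBasis_top fun V _ a => M1.section_ext _ _ fun z hz => ?_)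
  rw [← stLin_germ _ hz, ← stLin_germ _ hz, stLin_zero, stLin_comp]
  refine h z _ ?_
  rw [← stLin_comp, kernelSubobject_arrow_comp, stLin_zero]

end Stalkwise

section Triangle

variable {F : X.Modules} {s : F ⟶ Coh.structureModule X} {lam : Coh.structureModule X ⟶ L}
  {t : CohB1.tensorMod F L ⟶ Coh.structureModule X}

include hl in
theorem exists_triangle (htri : KoszTw.TwistTriangle s lam t) :
    ∃ a : Γ(X, U.1), lam.app U.1 (show Γ(Coh.structureModule X, U.1) from (1 : Γ(X, U.1))) = a • l ∧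
      (Mono lam → a ∈ nonZeroDivisors Γ(X, U.1)) ∧
      KoszSh.secForm s U.1 = a • (KoszSh.secForm t U.1).comp (psiL F l) := by
  have hb := hl U.1 le_rfl
  rw [show M2.res L le_rfl l = l from M1.mres_id L _ l] at hb
  obtain ⟨a, ha⟩ := hb.2 (lam.app U.1 (show Γ(Coh.structureModule X, U.1) from (1 : Γ(X, U.1))))
  have hlam : ∀ c : Γ(X, U.1), lam.app U.1 (show Γ(Coh.structureModule X, U.1) from c) = (c * a) • l := fun c => by
    rw [mul_smul]
    refine Eq.trans ?_ (congrArg (c • ·) ha).symm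
    refine Eq.trans ?_ (lam.app_smul c _)
    exact congrArg (lam.app U.1) (mul_one c).symm
  refine ⟨a, ha.symm, fun hm => ?_, LinearMap.ext fun f => hb.1 ?_⟩
  · refine mem_nonZeroDivisors_iff_right.2 fun c hc => ?_
    apply M1.app_injective lam U.1
    rw [hlam, hc, zero_smul]
    exact (map_zero _).symm
  · show KoszSh.secForm s U.1 f • l = (a * _) • l
    rw [← htri U.1 f l, mul_comm]
    exact hlam _

end Triangle

end Groth.Agent.KoszShH13
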